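import Cfsg.Agent.DL.Dat.Sub
import Cfsg.Agent.DL.St.Dat
import Cfsg.Agent.DL.Rows.Main
import Cfsg.Agent.SB.Exc.Card
import Cfsg.Agent.H695.OneZero.RankOnePel

/-!
# S4942: centralisers of relative rank one from a datum (helper5)

`rk1_of_qs` : a quasi-split datum whose simple roots form one orbit gives a group of rank one; `mem_cen` : centralisers of
elements of large prime order are connected; `exists_rc` : the configuration `RC`.
-/

set_option autoImplicit false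
set_option linter.unusedSectionVars false

namespace Cfsg.Agent.VAN.E

open CoxeterSystem Cfsg.Agent.ChevalleyStructure.CoxeterGeom Cfsg.Agent.Tits.Roots Cfsg.Agent.Nodes.Reps
  Cfsg.Agent.Nodes.BNOf Cfsg.Agent.Tits.Core Cfsg.Agent.Tits.Exchange Cfsg.Agent.DL Cfsg.Agent.DL.Base
  Cfsg.Agent.Nodes.SubComb
open Cfsg.Agent.H695.OneZero (Rk1)

universe u

attribute [local instance] fintypeSmp decSmp

/-- `T` is transitive on the non-trivial elements of `U` -/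
def Tr {C : Type u} [Group C] (U T : Subgroup C) : Prop :=
  ∀ u ∈ U, ∀ v ∈ U, u ≠ 1 → v ≠ 1 → ∃ t ∈ T, t * u * t⁻¹ = v

/-- the centraliser of `z` is a group of rank one -/
structure RC {G : Type u} [Group G] (p r m : ℕ) (z : G) (U T : Subgroup (Subgroup.centralizer ({z} : Set G)))
    (n0 : Subgroup.centralizer ({z} : Set G)) : Prop where
  zr : z ^ r = 1
  rk : Rk1 U T n0
  pU : IsPGroup p U
  cU : Nat.card U ≤ p ^ m
  cT : ¬ p ∣ Nat.card T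

variable {p : ℕ} [Fact p.Prime] {k : Type} [Field k] [CharP k p] {Y : Type} [Group Y] {N : Type} [Fintype N]
  [DecidableEq N] {ρ : Y →* GL N k} {F : MulAut Y} {G : Subgroup Y} [IsAlgClosed k] (D : Datum p ρ F G)

section QS

variable {C : Type u} [Group C] (φ : C →* Y) (hφ : Function.Injective φ) (hr : ∀ y, y ∈ GF F G ↔ ∃ c, φ c = y)

include hφ hr

theorem rk1_of_qs (h : D.QS) (hσ : ∀ i j, D.σ.SameCycle i j) (i0 : D.I) :
    ∃ n0, Rk1 (D.U.comap φ) (D.T.comap φ) n0 := by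
  have S := D.sbn
  have A := St.aut_qs h
  have hfix : ∀ c, F (φ c) = φ c := fun c => ((hr _).2 ⟨c, rfl⟩).2
  have hG : ∀ c, φ c ∈ G := fun c => ((hr _).2 ⟨c, rfl⟩).1
  obtain ⟨a, ha, hFa, ha0⟩ := A.exists_fix_N S (St.map_w0 A.simple)
  obtain ⟨n0, rfl⟩ := (hr a).1 ⟨D.NN_le_G ha, hFa⟩
  have hB : ∀ c, φ c ∈ St.Par S ∅ → ∃ u ∈ D.U.comap φ, ∃ t ∈ D.T.comap φ, c = u * t := by
    intro c hc
    obtain ⟨u, hu, t, ht, e⟩ := (St.mem_Par_empty S).1 hc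
    have h1 := hfix c
    rw [e, map_mul] at h1
    have h2 : u⁻¹ * F u = t * (F t)⁻¹ := by
      rw [inv_mul_eq_iff_eq_mul, ← mul_assoc, ← h1, mul_inv_cancel_right]
    have h3 : u⁻¹ * F u = 1 := D.eq_one_of_mem_U_of_mem_T (mul_mem (inv_mem hu) (A.mapU u hu))
      (h2 ▸ mul_mem ht (inv_mem (D.F_mem_T ht)))
    obtain ⟨u', rfl⟩ := (hr u).1 ⟨D.U_le_G hu, (inv_mul_eq_one.1 h3).symm⟩
    obtain ⟨t', rfl⟩ := (hr t).1 ⟨D.T_le_G ht, (mul_inv_eq_one.1 (h2.symm.trans h3)).symm⟩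
    exact ⟨u', hu, t', ht, hφ (by rw [e, map_mul])⟩
  have hTU : ∀ t ∈ D.T.comap φ, ∀ u ∈ D.U.comap φ, t * u * t⁻¹ ∈ D.U.comap φ := fun t ht u hu => by
    rw [Subgroup.mem_comap, map_mul, map_mul, map_inv]
    exact D.conj_mem_U_of_T ht hu
  refine ⟨n0, hTU, fun s hs t ht => hφ ?_, fun c => ?_, fun u hu v hv t ht e => hφ ?_, fun t ht => ?_,
    fun u hu ht => hφ ?_, ?_⟩
  · rw [map_mul, map_mul]
    exact D.T_comm hs ht
  · by_cases h1 : St.cl D.U D.NN D.pr (φ c) = 1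
    · exact Or.inl (hB c ⟨hG c, St.mem_WJ_empty.2 h1⟩)
    right
    have h2 : St.cl D.U D.NN D.pr (φ c) = w0 D.cs := by
      obtain ⟨i, hi⟩ := D.cs.exists_rightDescent_of_ne_one h1
      refine St.eq_w0_of_descents fun j hj => ?_
      have h3 := (St.asc_iff_of_sameCycle A.simple (A.cl_fix S (hG c) (hfix c)) (hσ j i)).2 hj
      exact lt_asymm h3 hi
    obtain ⟨u, hu, h3⟩ := St.exists_top S A (H := GF F G) (fun _ => Iff.rfl) (fun a ha h0 u hu => St.opp D ha h0 hu)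
      ha ha0 ((hr _).2 ⟨c, rfl⟩) h2
    obtain ⟨u, rfl⟩ := (hr u).1 hu.2
    obtain ⟨v, hv, t, ht, e⟩ := hB ((u * n0)⁻¹ * c) (by rwa [map_mul, map_inv, map_mul])
    refine ⟨u, hu.1, n0 * t * n0⁻¹, ?_, t⁻¹ * v * t⁻¹⁻¹, hTU _ (inv_mem ht) v hv, ?_⟩
    · rw [Subgroup.mem_comap, map_mul, map_mul, map_inv]
      exact D.conj_mem_T ha ht
    · calc c = u * n0 * ((u * n0)⁻¹ * c) := by group
        _ = _ := by rw [e]; group
  · rw [map_one]
    refine St.opp D ha ha0 hu (St.mem_U_of_conj S ha hu ((St.mem_Par_empty S).2 ⟨φ v, hv, φ t, ht, ?_⟩))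
    rw [← map_inv, ← map_mul, ← map_mul, e, map_mul]
  · rw [Subgroup.mem_comap, map_mul, map_mul, map_inv]
    exact S.conj_T' ha ht
  · rw [map_one]
    exact D.eq_one_of_mem_U_of_mem_T hu ht
  · obtain ⟨u, hu, h1, h2⟩ := St.move h i0
    obtain ⟨u, rfl⟩ := (hr u).1 ⟨D.U_le_G hu, h1⟩
    refine ⟨u, hu, ?_⟩
    rintro rfl
    exact h2 1 (one_mem _) (by simp)

omit hr in
theorem not_dvd_T [Finite C] : ¬ p ∣ Nat.card (D.T.comap φ) := by
  intro h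
  obtain ⟨t, ht⟩ := exists_prime_orderOf_dvd_card' p h
  have h1 : φ t = 1 := St.eq_one_of_pow D t.2 (by
    have h2 := pow_orderOf_eq_one t
    rw [ht] at h2
    rw [← map_pow, ← Subgroup.coe_pow, h2, Subgroup.coe_one, map_one])
  have h2 : t = 1 := Subtype.ext (hφ (h1.trans (map_one φ).symm))
  rw [h2, orderOf_one] at ht
  exact (Fact.out : p.Prime).one_lt.ne ht

end QS

theorem chi_pow (a : D.I → ℤ) {z : Y} (hz : z ∈ D.T) (n : ℕ) : D.χ a (z ^ n) = D.χ a z ^ n := by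
  induction n with
  | zero => rw [pow_zero, pow_zero, D.χ_one]
  | succ n ih => rw [pow_succ, pow_succ, D.χ_mul a (pow_mem hz n) hz, ih]

/-- centralisers of elements of large prime order are connected -/
theorem mem_cen {z : Y} (hz : z ∈ D.T) {r : ℕ} (hr : r.Prime) (hrk : Fintype.card D.I + 1 < r) (hzr : z ^ r = 1)
    (hF : ∀ a ∈ D.Sz {z}, D.g a ∈ D.Sz {z}) {y : Y} (hy : y ∈ G) (hc : y ∈ Subgroup.centralizer ({z} : Set Y)) :
    y ∈ D.cen {z} := by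
  have hZ : ({z} : Set Y) ⊆ D.T := Set.singleton_subset_iff.2 hz
  obtain ⟨c, hc1, m, ⟨w, hm⟩, hmc, rfl⟩ := D.exists_cen_form hZ hy hc
  obtain ⟨v, hv⟩ := D.exists_sub_chamber hZ hF rfl w
  obtain ⟨m', hm'⟩ := Nodes.Reps.exists_rp _ (D.sub hZ hF rfl).nsys v
  have h1 : m' ∈ D.cen {z} := Datum.Rp.mem_G hm'
  have h2 : D.Rp (D.subW {z} v) m' := D.rp_of_sub hZ hF rfl hm'
  have h3 : D.Rp ((D.subW {z} v)⁻¹ * w) (m'⁻¹ * m) := h2.inv.mul hm
  have h4 : m'⁻¹ * m ∈ Subgroup.centralizer ({z} : Set Y) := mul_mem (inv_mem (D.cen_le_centralizer hZ h1)) hmc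
  have h5 : (D.subW {z} v)⁻¹ * w ∈ BpExc.TorCent.PP D.cs D.h D.χ z := by
    refine BpExc.TorCent.mem_PP.2 ⟨fun a _ => D.χ_act_of_comm hZ h3 h4 a rfl, fun a ha h0 => ?_⟩
    have ha' : a ∈ D.Sz {z} := ⟨ha.1, fun _ h => h ▸ ha.2⟩
    obtain ⟨b, hb, e1⟩ := hv.subset ⟨⟨a, ⟨ha.1, h0⟩, rfl⟩, D.act_mem_Sz hZ hm hmc ha'⟩
    rw [rep_mul_apply]
    exact ((congrArg _ e1.symm).trans (rep_inv_apply _ _ _ _)).symm ▸ hb.1.2
  obtain ⟨n, hn⟩ := BpExc.TorCent.isPGroup_PP (h := D.h) D.chAdd hz hr (fun a _ => by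
    rw [← chi_pow D a hz, hzr, D.χ_one]) ⟨_, h5⟩
  have h6 : (D.subW {z} v)⁻¹ * w = 1 := by
    rw [← orderOf_eq_one_iff]
    obtain ⟨j, -, hj⟩ := (Nat.dvd_prime_pow hr).1 (orderOf_dvd_of_pow_eq_one (congrArg Subtype.val hn))
    rcases j with _ | j
    · exact hj
    · exact absurd (hj ▸ dvd_pow_self r j.succ_ne_zero) (Rows.not_dvd_orderOf D.cs D.h hr hrk _)
  rw [h6] at h3
  have h7 := mul_mem (D.S_le_cen _ hc1) (mul_mem h1 (D.T_le_cen _ h3.mem_of_one))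
  rwa [mul_inv_cancel_left] at h7

/-- values of a fixed root on the finite torus -/
theorem exists_chi (hadj : Function.Surjective D.wt) {a : ℕ} (hq : SB.Exc.Card.Fq p ρ F a) {i : D.I}
    (hg : D.g (sr i) = sr i) {c : k} (hc0 : c ≠ 0) (hc : c ^ p ^ a = c) : ∃ t ∈ D.T, F t = t ∧ D.χ (sr i) t = c := by
  obtain ⟨d, H⟩ := hq.split D
  have hi : D.Rt (sr i) := isRoot_sr _ _ i
  have hex : D.ex (sr i) = a := by simpa using hq.sum_ex D hi one_pos hg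
  have h1 : ∀ j : ℕ, D.ψ^[j] (sr i) = (((p : ℤ) ^ a) ^ j) • sr i := fun j => by
    induction j with
    | zero => simp
    | succ j ih =>
      rw [Function.iterate_succ_apply', ih, map_zsmul, pow_succ, mul_smul]
      congr 1
      conv_lhs => rw [← hg]
      rw [D.ψ_g hi, hex]
  obtain ⟨n, hn⟩ : ∃ n : ℕ, n = ∑ j ∈ Finset.range d, (p ^ a) ^ j := ⟨_, rfl⟩
  have hn0 : 0 < n := hn ▸ Finset.sum_pos (fun j _ => pow_pos (pow_pos (Fact.out : p.Prime).pos a) j)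
    ⟨0, Finset.mem_range.2 H.d_pos⟩
  have h2 : Rows.nrm D d (sr i) i = n := by
    simp only [Rows.nrm, h1, ← Finset.sum_smul, Pi.smul_apply, sr_self, smul_eq_mul, mul_one, hn]
    push_cast
    rfl
  obtain ⟨ω, hω⟩ := exists_zpow_eq (n := n) (by exact_mod_cast hn0.ne') (Units.mk0 c hc0)
  have h3 : ω ^ ((p : ℤ) ^ (a * d) - 1) = 1 := by
    have e : (p : ℤ) ^ (a * d) - 1 = n * (p ^ a - 1) := by
      rw [hn, pow_mul]
      push_cast
      rw [geom_sum_mul]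
    rw [e, zpow_mul, hω, zpow_sub_one, mul_inv_eq_one, ← Nat.cast_pow, zpow_natCast]
    exact Units.ext hc
  obtain ⟨t, ht, hχ⟩ := Rows.exists_of_hom hadj ω
    (AddMonoidHom.ofMapSub (fun b => Rows.nrm D d b i) fun a b => by rw [Rows.nrm_sub]; rfl)
  replace hχ : ∀ b, D.χ b t = ((ω ^ Rows.nrm D d b i : kˣ) : k) := hχ
  refine ⟨t, ht, Rows.eq_of_χ_eq hadj (D.F_mem_T ht) ht fun b => ?_, by rw [hχ, h2, hω]; rfl⟩
  rw [D.χ_ψ b ht, ← sub_add_cancel (D.ψ b) b, D.χ_add, hχ (D.ψ b - b), Rows.nrm_ψ D H, Pi.smul_apply, smul_eq_mul,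
    zpow_mul, h3, one_zpow, Units.val_one, one_mul]

/-- **The configuration of relative rank one.** -/
theorem exists_rc {S : Type u} [Group S] [Finite S] (ι : S →* Y) (hι : Function.Injective ι)
    (hr : ∀ y, y ∈ GF F G ↔ ∃ s, ι s = y) (hadj : Function.Surjective D.wt) {a : ℕ} (hq : SB.Exc.Card.Fq p ρ F a)
    {r : ℕ} (hr' : r.Prime) (hrp : r ≠ p) (hrk : Fintype.card D.I + 1 < r) (f : (D.I → ℤ) →+ ℤ)
    (hf : ∀ b, (r : ℤ) ∣ f (D.ψ b) - f b) {α β : D.I → ℤ} (hα : D.Rt α ∧ 0 ≤ α ∧ (r : ℤ) ∣ f α)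
    (hβ : D.Rt β ∧ 0 ≤ β ∧ (r : ℤ) ∣ f β) (gα : D.g α = β) (gβ : D.g β = α) (gαβ : 0 ≤ D.g (α + β))
    (L : List (D.I → ℤ)) (hS : ∀ b, D.Rt b → 0 ≤ b → (r : ℤ) ∣ f b → b ∈ L)
    (hL : ∀ b ∈ L, b = α ∨ b = β ∨ b = α + β) :
    ∃ (z : S) (U T : Subgroup _) (n0 : _), RC p r (a * L.length) z U T n0 ∧ ∀ i, L = [sr i] → Tr U T := by
  classical
  have : NeZero (r : k) := ⟨fun h0 => hrp ((Nat.prime_dvd_prime_iff_eq Fact.out hr').1
    ((CharP.cast_eq_zero_iff k p r).1 h0)).symm⟩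
  have : NeZero r := ⟨hr'.ne_zero⟩
  obtain ⟨ζ, hζ⟩ := HasEnoughRootsOfUnity.exists_primitiveRoot k r
  have hω : IsPrimitiveRoot (hζ.isUnit (NeZero.ne _)).unit r := hζ.isUnit_unit (NeZero.ne _)
  obtain ⟨z, hz, hχ⟩ := Rows.exists_of_hom hadj (hζ.isUnit (NeZero.ne _)).unit f
  have h1 : ∀ b, D.χ b z = 1 ↔ (r : ℤ) ∣ f b := fun b => by rw [hχ, Units.val_eq_one, hω.zpow_eq_one_iff_dvd]
  have hFz : F z = z := Rows.eq_of_χ_eq hadj (D.F_mem_T hz) hz fun b => by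
    rw [D.χ_ψ b hz, ← sub_add_cancel (D.ψ b) b, D.χ_add, (h1 _).2 (by rw [map_sub]; exact hf b), one_mul]
  have hzr : z ^ r = 1 := Rows.eq_of_χ_eq hadj (pow_mem hz r) (one_mem _) fun b => by
    rw [chi_pow D b hz, D.χ_one, ← zpow_natCast, ← D.χ_zsmul, h1, map_zsmul]
    exact dvd_mul_right _ _
  have hZ : ({z} : Set Y) ⊆ D.T := Set.singleton_subset_iff.2 hz
  have hF : ∀ b ∈ D.Sz {z}, D.g b ∈ D.Sz {z} := fun _ => D.g_mem_Sz hZ fun z hz => by rw [hz, hFz]; rfl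
  have h2 : ∀ b, b ∈ D.Lam {z} ↔ (r : ℤ) ∣ f b := fun b =>
    ⟨fun h => (h1 b).1 (h z rfl), fun h _ h' => h' ▸ (h1 b).2 h⟩
  have h3 : ∀ b, b ∈ RGD.Pos D.cs D.h ∩ D.Sz {z} → b ∈ L := fun b hb => hS b hb.1.1 hb.1.2 ((h2 b).1 hb.2.2)
  obtain ⟨z, rfl⟩ := (hr z).1 ⟨D.T_le_G hz, hFz⟩
  let φ := ι.comp (Subgroup.centralizer ({z} : Set S)).subtype
  have hφ : Function.Injective φ := hι.comp Subtype.val_injective
  have hrg : ∀ y, y ∈ GF F (D.cen {ι z}) ↔ ∃ c, φ c = y := by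
    refine fun y => ⟨fun hy => ?_, ?_⟩
    · obtain ⟨s, rfl⟩ := (hr y).1 ⟨D.cen_le_G _ hy.1, hy.2⟩
      refine ⟨⟨s, fun x hx => hι ?_⟩, rfl⟩
      rw [hx, map_mul, map_mul]
      exact D.cen_le_centralizer hZ hy.1 _ rfl
    · rintro ⟨c, rfl⟩
      have h4 := (hr _).2 ⟨c.1, rfl⟩
      refine ⟨mem_cen D hz hr' hrk hzr hF h4.1 fun x hx => ?_, h4.2⟩
      rw [hx]
      exact (map_mul ι _ _).symm.trans ((congrArg ι (c.2 z rfl)).trans (map_mul ι _ _))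
  let E := D.sub hZ hF rfl
  have hQ : E.QS := fun c hc h0 => by
    rw [← iota_nonneg_iff (E.g_root c hc)]
    have h4 := D.sub_g hZ hF rfl hc
    have h5 := (D.sub_rt hZ hF rfl).1 hc
    refine le_of_le_of_eq ?_ h4.symm
    rcases hL _ (h3 _ ⟨⟨h5.1, iota_nonneg h0⟩, h5⟩) with e | e | e <;> rw [e]
    · exact gα ▸ hβ.2.1
    · exact gβ ▸ hα.2.1
    · exact gαβ
  have hα' : PosL D.cs D.h (D.Lam {ι z}) α := ⟨hα.1, hα.2.1, (h2 _).2 hα.2.2⟩
  have hβ' : PosL D.cs D.h (D.Lam {ι z}) β := ⟨hβ.1, hβ.2.1, (h2 _).2 hβ.2.2⟩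
  have h4 : ∀ j : E.I, bs D.cs D.h _ j = α ∨ bs D.cs D.h _ j = β := fun j => by
    rcases hL _ (h3 _ ⟨⟨bs_root j, bs_nonneg j⟩, bs_root j, bs_mem j⟩) with e | e | e
    · exact Or.inl e
    · exact Or.inr e
    · exact absurd e (j.2.2 _ _ hα' hβ')
  have h5 : ∀ j : E.I, bs D.cs D.h _ (E.σ j) = D.g (bs D.cs D.h _ j) := fun j => by
    have h6 := D.sub_g hZ hF rfl (isRoot_sr E.cs E.h j)
    rwa [hQ.g_sr, iota_sr, iota_sr] at h6
  have hσ : ∀ i j, E.σ.SameCycle i j := fun i j => by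
    by_cases hij : i = j
    · rw [hij]
    refine ⟨1, bs_injective ?_⟩
    rw [zpow_one, h5]
    rcases h4 i with e | e <;> rcases h4 j with e' | e'
    · exact absurd (bs_injective (e.trans e'.symm)) hij
    · rw [e, e', gα]
    · rw [e, e', gβ]
    · exact absurd (bs_injective (e.trans e'.symm)) hij
  obtain ⟨i0⟩ : Nonempty E.I := by
    by_contra hne
    obtain ⟨c, -, hc⟩ := exists_coeff hα'
    rw [iota_apply, Finset.sum_eq_zero fun j _ => absurd ⟨j⟩ hne] at hc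
    exact hα.1.ne_zero hc.symm
  obtain ⟨n0, hk⟩ := rk1_of_qs E φ hφ hrg hQ hσ i0
  have hfix : ∀ c, F (φ c) = φ c := fun c => ((hrg _).2 ⟨c, rfl⟩).2
  refine ⟨z, _, _, n0, ⟨hι (by rw [map_pow, hzr, map_one]), hk, E.isPGroup_U.comap_of_injective φ hφ, ?_,
    not_dvd_T E φ hφ⟩, ?_⟩
  · have h6 := hq.card_S E _ _ E.uni_pos (fun c hc => ⟨E.g_root c hc.1, hQ c hc.1 hc.2⟩) rfl
    have h7 : (RGD.Pos E.cs E.h).ncard ≤ L.length := by
      rw [← Set.ncard_image_of_injective _ (D.io_injective _), D.io_pos]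
      refine (Set.ncard_le_ncard (t := L.toFinset) (fun b hb => by simpa using h3 b hb)).trans ?_
      rw [Set.ncard_coe_finset]
      exact L.toFinset_card_le
    have := D.amb.finite_fix
    have : Finite ↥(E.U ⊓ fix F) := Finite.of_injective _ (Subgroup.inclusion_injective inf_le_right)
    refine (Nat.card_le_card_of_injective (fun u : E.U.comap φ => (⟨φ u, u.2, hfix _⟩ : ↥(E.U ⊓ fix F)))
      fun u v e => Subtype.ext (hφ (congrArg Subtype.val e))).trans (h6.trans ?_)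
    rw [pow_mul]
    exact Nat.pow_le_pow_right (pow_pos (Fact.out : p.Prime).pos a) h7
  · rintro i rfl u hu v hv hu1 hv1
    have hi : D.Rt (sr i) := isRoot_sr _ _ i
    have eα : α = sr i := List.mem_singleton.1 (hS _ hα.1 hα.2.1 hα.2.2)
    have eβ : β = sr i := List.mem_singleton.1 (hS _ hβ.1 hβ.2.1 hβ.2.2)
    rw [eα, eβ] at gα
    have h6 : E.U ≤ D.X (sr i) := by
      rw [D.sub_U']
      exact RGD.Sup_le fun b hb => by rw [List.mem_singleton.1 (h3 b hb)]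
    obtain ⟨s, hs⟩ := (D.mem_X _ hi _).1 (h6 hu)
    obtain ⟨s', hs'⟩ := (D.mem_X _ hi _).1 (h6 hv)
    obtain ⟨c, hc0, hc⟩ := D.F_x _ hi
    have hex : D.ex (sr i) = a := by simpa using hq.sum_ex D hi one_pos gα
    rw [gα, hex] at hc
    have h7 : ∀ s w, D.x (sr i) s = φ w → w ≠ 1 → s ≠ 0 ∧ c * s ^ p ^ a = s := fun s w e h => ⟨fun h0 =>
      h (hφ (by rw [← e, h0, D.x_zero hi, map_one])), D.x_inj _ hi (by rw [← hc, e, hfix])⟩
    obtain ⟨a1, a2⟩ := h7 s u hs hu1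
    obtain ⟨b1, b2⟩ := h7 s' v hs' hv1
    obtain ⟨t, ht, hFt, e⟩ := exists_chi D hadj hq gα (c := s' / s) (div_ne_zero b1 a1) (by
      rw [div_pow, ← mul_div_mul_left _ _ hc0, a2, b2])
    obtain ⟨t, rfl⟩ := (hrg t).1 ⟨D.T_le_cen _ ht, hFt⟩
    refine ⟨t, ht, hφ ?_⟩
    rw [map_mul, map_mul, map_inv, ← hs, D.tor' hi ht, e, div_mul_cancel₀ _ a1, hs']

end Cfsg.Agent.VAN.E
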