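import Cfsg.Agent.VAN.E.Semi
import Cfsg.Agent.VAN.E.Dat
import Cfsg.Agent.H395.Jordan
import Cfsg.Agent.Blocks.RegularCount
import Cfsg.Agent.PermutationGroups.Subdegree

/-!
# S4942: elements with a centraliser of rank one (helper5)

`RC.card_U` : the order of `U`; `RC.ell` : an element `z y`, `y` elliptic; `RC.uni` : an element `z u`, `u` unipotent.
-/

set_option autoImplicit false

namespace Cfsg.Agent.VAN.E

open Cfsg Cfsg.Agent.Characters Cfsg.Agent.H730.OZ Cfsg.Agent.H695.OneZero Cfsg.Agent.Blocks.Basic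

universe u

section Rank

variable {C : Type u} [Group C] [Finite C] {U T : Subgroup C} {n0 : C} (h : Rk1 U T n0)

include h

theorem ncard_pSet {p : ℕ} (hp : p.Prime) (hU : IsPGroup p U) (hT : ¬ p ∣ Nat.card T) :
    (pSet p C).ncard = Nat.card U ^ 2 := by
  classical
  have := Fintype.ofFinite C
  have := Fintype.ofFinite U
  have h1 := h.sum_pel hp hU hT (fun _ => 1) (fun _ _ => rfl) (pSet p C).toFinset fun v => Set.mem_toFinset
  rw [Finset.sum_const, Finset.sum_const, Finset.card_univ, ← Nat.card_eq_fintype_card, ← Set.ncard_eq_toFinset_card'] at h1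
  have h2 : (((pSet p C).ncard : ℕ) : ℂ) = ((Nat.card U ^ 2 : ℕ) : ℂ) := by
    simp only [nsmul_eq_mul, mul_one] at h1
    rw [h1]
    push_cast
    ring
  exact_mod_cast h2

/-- `r`-elements of the torus are central -/
theorem central (hT : Tr U T) {r : ℕ} (hr : r.Prime) (hrU : ¬ r ∣ Nat.card U - 1) {t : C} (ht : t ∈ T) {k : ℕ}
    (hk : t ^ r ^ k = 1) (g : C) : t * g = g * t := by
  classical
  have : Fact r.Prime := ⟨hr⟩
  have key : ∀ t ∈ T, t ^ r ^ k = 1 → ∀ u ∈ U, t * u * t⁻¹ = u := by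
    intro t ht hk u hu
    by_cases hu1 : u = 1
    · rw [hu1, mul_one, mul_inv_cancel]
    have := Fintype.ofFinite U
    let f : Function.End {u : U // u ≠ 1} := fun v => ⟨⟨t * v.1 * t⁻¹, h.TU t ht _ v.1.2⟩, fun e =>
      v.2 (Subtype.ext (conj_eq_one_iff.1 (congrArg Subtype.val e)))⟩
    have h1 : ∀ n : ℕ, ∀ v, (((f ^ n) v).1 : C) = t ^ n * v.1 * (t ^ n)⁻¹ := fun n => by
      induction n with
      | zero => intro v; simp; rfl
      | succ n ih =>
        intro v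
        rw [pow_succ', pow_succ']
        show t * ((f ^ n) v).1 * t⁻¹ = _
        rw [ih]
        group
    have h2 := Equiv.Perm.card_fixedPoints_modEq (f := f) (p := r) (n := k) (funext fun v =>
      Subtype.ext (Subtype.ext (by rw [h1, hk]; simp; rfl)))
    rw [Fintype.card_subtype_compl, Fintype.card_subtype_eq, ← Nat.card_eq_fintype_card] at h2
    obtain ⟨v, hv⟩ : Nonempty f.fixedPoints := by
      by_contra hne
      rw [not_nonempty_iff] at hne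
      rw [Fintype.card_eq_zero] at h2
      exact hrU ((Nat.modEq_zero_iff_dvd).1 h2)
    have h3 : t * v.1 * t⁻¹ = v.1 := congrArg (fun x => (x.1 : C)) hv
    obtain ⟨s, hs, e⟩ := hT _ v.1.2 u hu (fun e => v.2 (Subtype.ext e)) hu1
    calc t * u * t⁻¹ = (t * s) * v.1 * (t * s)⁻¹ := by rw [← e]; group
      _ = s * (t * v.1 * t⁻¹) * s⁻¹ := by rw [h.comm t ht s hs]; group
      _ = u := by rw [h3, e]
  let Z := Subgroup.centralizer ({t} : Set C)
  have hZ : ∀ g, t * g * t⁻¹ = g → g ∈ Z := fun g e x hx => by rw [hx, ← mul_inv_eq_iff_eq_mul, e]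
  have hB : h.bor ≤ Z := by
    rintro _ ⟨u, hu, s, hs, rfl⟩
    exact mul_mem (hZ u (key t ht hk u hu)) (hZ s (by rw [h.comm t ht s hs, mul_inv_cancel_right]))
  have hn : n0 ∈ Z := by
    obtain ⟨u, hu, hu1⟩ := h.U1
    have h1 : n0⁻¹ * u * n0 ∉ h.bor := fun ⟨v, hv, s, hs, e⟩ => hu1 (h.disj u hu v hv s hs e)
    obtain ⟨v, hv, b, hb, e⟩ := h.exists_of_notMem h1
    have h2 : n0⁻¹ * u * n0 ∈ Z := hZ _ (by
      have h3 := key _ ((toSplit h).wT' t ht) (by rw [conj_pow, hk, mul_one, mul_inv_cancel]) u hu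
      have h4 : n0 * t * n0⁻¹ * u * (n0 * t * n0⁻¹)⁻¹ = u := h3
      conv_rhs => rw [← h4]
      group)
    have h3 := mul_mem (mul_mem (inv_mem (hB (h.U_le hv))) h2) (inv_mem (hB hb))
    rwa [e, mul_assoc v, inv_mul_cancel_left, mul_inv_cancel_right] at h3
  have hg : g ∈ Z := by
    by_cases hg : g ∈ h.bor
    · exact hB hg
    · obtain ⟨v, hv, b, hb, rfl⟩ := h.exists_of_notMem hg
      exact mul_mem (mul_mem (hB (h.U_le hv)) hn) (hB hb)
  exact hg t rfl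

/-- an elliptic element of order prime to `r` -/
theorem exists_ell (hT : Tr U T) {r : ℕ} (hr : r.Prime) (h0 : ¬ r ∣ Nat.card U - 1) (h1 : ¬ r ∣ Nat.card U)
    (h2 : ¬ r ∣ Nat.card U + 1) : ∃ y : C, ¬ r ∣ orderOf y ∧ ∀ x : C, x⁻¹ * y * x ∉ h.bor := by
  have : Fact r.Prime := ⟨hr⟩
  obtain ⟨g, hg⟩ := H395.Jordan.exists_not_conj_mem h.bor_ne_top
  obtain ⟨s, y, rfl, -, -, -, ⟨k, hk⟩, hy⟩ := Blocks.RegularCount.exists_pPart (p := r) g
  refine ⟨y, hy, fun x hx => hg x ?_⟩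
  have h3 : IsPGroup r (Subgroup.zpowers s) := IsPGroup.of_card (n := k) (by rw [Nat.card_zpowers, hk])
  have h4 : Nat.card (C ⧸ T) = (Nat.card U + 1) * Nat.card U := by
    apply Nat.eq_of_mul_eq_mul_right (Nat.card_pos (α := T))
    rw [← Subgroup.card_eq_card_quotient_mul_card_subgroup, Subgroup.card_eq_card_quotient_mul_card_subgroup h.bor,
      h.card_quot, h.card_bor, mul_assoc]
  obtain ⟨c, hc⟩ := h3.nonempty_fixed_point_of_prime_not_dvd_card (C ⧸ T) (by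
    rw [h4, hr.dvd_mul]
    exact fun h => h.elim h2 h1)
  obtain ⟨c, rfl⟩ := QuotientGroup.mk_surjective c
  have h5 : c⁻¹ * (s * c) ∈ T := QuotientGroup.eq.1 (hc ⟨s, Subgroup.mem_zpowers s⟩).symm
  have h6 := central h hT hr h0 h5 (k := k) (by
    rw [← mul_assoc, ← inv_inv c, inv_inv c⁻¹, conj_pow, ← hk, pow_orderOf_eq_one, mul_one, mul_inv_cancel])
  have h7 : x⁻¹ * (s * y) * x = c⁻¹ * (s * c) * (x⁻¹ * y * x) := by
    have h8 : s = c⁻¹ * (s * c) := by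
      have := h6 c⁻¹
      rw [mul_assoc, mul_inv_cancel_right, mul_right_inj] at this
      exact this
    rw [← mul_assoc, ← mul_assoc, ← mul_assoc, h6 x⁻¹, ← h8]
  rw [h7]
  exact mul_mem (h.T_le h5) hx

/-- the central character for a transitive torus -/
theorem om_tr (hT : Tr U T) {p v : ℕ} (hp : p.Prime) (hU : Nat.card U = p ^ v) (hpT : ¬ p ∣ Nat.card T) {ψ : C → ℂ}
    (hψ : IsIrrCharacter C ψ) {y : C} (hy : ∀ x : C, x⁻¹ * y * x ∉ h.bor) (h0 : ψ y ≠ 0) :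
    Om p ψ (-(p : ℤ) ^ v) ∨ Om p ψ 1 ∨ Om p ψ ((p : ℤ) ^ (2 * v)) := by
  classical
  rcases om_cases h hp hU hpT hψ with h1 | ⟨-, h1⟩ | ⟨j, d, -, h1, h2, h3, -, h4⟩
  · exact Or.inl h1
  · exact absurd (h1 y hy) h0
  right
  have := Fintype.ofFinite U
  obtain ⟨u, hu, hu1⟩ := h.U1
  obtain ⟨n, hn⟩ : ∃ n, p ^ v = n + 1 := ⟨p ^ v - 1, by have := pow_pos hp.pos v; omega⟩
  have h5 : ∑ x ∈ Finset.univ.erase (1 : U), ψ x = n * ψ u := by
    rw [Finset.sum_congr rfl (g := fun _ => ψ u) fun x hx => by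
      obtain ⟨s, -, e⟩ := hT u hu x x.2 hu1 fun e => (Finset.mem_erase.1 hx).1 (Subtype.ext e)
      rw [← e, irr_conj hψ], Finset.sum_const, Finset.card_erase_of_mem (Finset.mem_univ _), Finset.card_univ,
      ← Nat.card_eq_fintype_card, hU, hn, Nat.add_sub_cancel, nsmul_eq_mul]
  rw [finsum_eq_sum_of_fintype, ← Finset.add_sum_erase _ _ (Finset.mem_univ 1), h5, ← Nat.cast_pow, hn,
    Subgroup.coe_one, h2] at h4
  have h6 := PermutationGroups.Subdegree.dvd_of_isIntegral (f := n) (k := 1 - d)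
    (z := ψ u - 1) (by push_cast at h4 ⊢; linear_combination -h4)
    ((GaloisBasic.isIntegral_apply (Core.isIrr_isCharacter hψ) u).sub isIntegral_one)
  have hj := pow_pos hp.pos j
  rw [hn] at h3
  have hd0 : d ≠ 0 := by
    rintro rfl
    rw [zero_mul] at h3
    exact absurd h3.symm (by positivity)
  have hd : d ≤ n + 1 := by
    by_contra hd
    nlinarith
  have h7 : d = 1 ∨ d = n + 1 := by
    by_contra hc
    have h8 : (n : ℤ) ∣ ((d - 1 : ℕ) : ℤ) := by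
      rw [Nat.cast_sub (by omega), ← dvd_neg, neg_sub]
      exact h6
    have := Nat.le_of_dvd (by omega) (Int.natCast_dvd_natCast.1 h8)
    omega
  rcases h7 with rfl | rfl
  · right
    have h8 : p ^ j = p ^ (2 * v) := by rw [mul_comm 2, pow_mul, hn]; nlinarith
    rwa [Nat.pow_right_injective hp.two_le h8] at h1
  · left
    have h8 : p ^ j = p ^ 0 := by rw [pow_zero]; nlinarith
    rwa [Nat.pow_right_injective hp.two_le h8, pow_zero] at h1

end Rank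

variable {G : Type u} [Group G] [Finite G] {p r m : ℕ} {z : G} {U T : Subgroup (Subgroup.centralizer ({z} : Set G))}
  {n0 : Subgroup.centralizer ({z} : Set G)} (h : RC p r m z U T n0) (hp : p.Prime) (hr : r.Prime)

include h hp hr

theorem RC.card_U : ∃ v, 0 < v ∧ v ≤ m ∧ Nat.card U = p ^ v ∧ (pSet p G).ncard ≡ p ^ (2 * v) [MOD r] := by
  classical
  have : Fact r.Prime := ⟨hr⟩
  have : Fact p.Prime := ⟨hp⟩
  obtain ⟨v, hv⟩ := IsPGroup.iff_card.1 h.pU
  refine ⟨v, Nat.pos_of_ne_zero ?_, (Nat.pow_le_pow_iff_right hp.one_lt).1 (hv ▸ h.cU), hv, ?_⟩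
  · rintro rfl
    obtain ⟨u, hu, hu1⟩ := h.rk.U1
    rw [pow_zero, Subgroup.card_eq_one] at hv
    exact hu1 (by rwa [hv] at hu)
  have := Fintype.ofFinite G
  let f : Function.End (pSet p G) := fun v => ⟨z * v * z⁻¹, (conj_mem_pSet _ _).2 v.2⟩
  have h1 : ∀ n : ℕ, ∀ v, ((f ^ n) v : G) = z ^ n * v * (z ^ n)⁻¹ := fun n => by
    induction n with
    | zero => intro v; simp; rfl
    | succ n ih =>
      intro v
      rw [pow_succ', pow_succ']
      show z * ((f ^ n) v : G) * z⁻¹ = _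
      rw [ih]
      group
  have h2 := Equiv.Perm.card_fixedPoints_modEq (f := f) (p := r) (n := 1) (funext fun v =>
    Subtype.ext (by rw [h1, pow_one, h.zr]; simp; rfl))
  rw [← Nat.card_eq_fintype_card, ← Nat.card_eq_fintype_card, Nat.card_coe_set_eq] at h2
  rw [mul_comm, pow_mul, ← hv, ← ncard_pSet h.rk hp h.pU h.cT,
    ← Nat.card_coe_set_eq (pSet p (Subgroup.centralizer ({z} : Set G)))]
  refine h2.trans ?_
  rw [Nat.card_congr (β := pSet p (Subgroup.centralizer ({z} : Set G)))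
    { toFun := fun x => ⟨⟨x.1, fun y hy => by rw [hy, ← mul_inv_eq_iff_eq_mul]; exact congrArg Subtype.val x.2⟩,
        x.1.2.imp fun _ e => (Subgroup.orderOf_mk _ _).trans e⟩
      invFun := fun x => ⟨⟨x.1, x.2.imp fun _ e => by rwa [Subgroup.orderOf_coe]⟩,
        Subtype.ext (mul_inv_eq_iff_eq_mul.2 (x.1.2 z rfl))⟩
      left_inv := fun _ => rfl
      right_inv := fun _ => rfl }]

omit hp [Finite G] in
theorem RC.ord : ∃ k : ℕ, orderOf z = r ^ k :=
  ((Nat.dvd_prime_pow hr).1 (orderOf_dvd_of_pow_eq_one (n := r ^ 1) (by rw [pow_one, h.zr]))).imp fun _ e => e.2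

/-- an element with elliptic `r'`-part -/
theorem RC.ell (hT : Tr U T) {v : ℕ} (hU : Nat.card U = p ^ v) (h0 : ¬ r ∣ p ^ v - 1) (h1 : r ≠ p)
    (h2 : ¬ r ∣ p ^ v + 1) : ∃ y : G, ∀ χ, IsIrrCharacter G χ → χ y ≠ 0 → ∀ lam : ℤ, Om p χ lam →
      (r : ℤ) ∣ lam + p ^ v ∨ (r : ℤ) ∣ lam - 1 ∨ (r : ℤ) ∣ lam - p ^ (2 * v) := by
  obtain ⟨y, hy, hy'⟩ := exists_ell h.rk hT hr (hU ▸ h0)
    (hU ▸ fun e => h1 ((Nat.prime_dvd_prime_iff_eq hr hp).1 (hr.dvd_of_dvd_pow e))) (hU ▸ h2)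
  refine ⟨z * y, fun χ hχ h3 lam hl => ?_⟩
  obtain ⟨ψ, hψ, h4, h5⟩ := semi hr (h.ord hr) y.2 (by rwa [Subgroup.orderOf_coe]) hχ h3 hl
  refine (om_tr h.rk hT hp hU h.cT hψ hy' h4).imp (fun e => ?_) (Or.imp (h5 _) (h5 _))
  simpa using h5 _ e

/-- an element with unipotent `r'`-part -/
theorem RC.uni {v : ℕ} (hU : Nat.card U = p ^ v) (h1 : r ≠ p) : ∃ g : G, p ∣ orderOf g ∧
    ∀ χ, IsIrrCharacter G χ → χ g ≠ 0 → ∀ lam : ℤ, Om p χ lam → (r : ℤ) ∣ lam + p ^ v ∨ (r : ℤ) ∣ lam - p ^ v ∨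
      ∃ j ≤ 2 * v, (r : ℤ) ∣ lam - p ^ j ∧ p ^ v + p ^ j ∣ p ^ v * (p ^ v + 1) ∧
        p ^ v + p ^ (2 * v - j) ∣ p ^ v * (p ^ v + 1) := by
  obtain ⟨u, hu, hu1⟩ := h.rk.U1
  obtain ⟨k, hk⟩ := h.pU ⟨u, hu⟩
  obtain ⟨k, -, hk⟩ := (Nat.dvd_prime_pow hp).1 (orderOf_dvd_of_pow_eq_one (x := u) (congrArg Subtype.val hk))
  have hpr : ¬ p ∣ r := fun e => h1 ((Nat.prime_dvd_prime_iff_eq hp hr).1 e).symm
  refine ⟨z * u, ?_, fun χ hχ h3 lam hl => ?_⟩
  · have hc : Commute z (u : G) := u.2 z rfl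
    have h2 : (u : G) ^ (r * orderOf (z * u)) = 1 := by
      have h3 : (z * u) ^ (r * orderOf (z * u)) = 1 := by rw [mul_comm r, pow_mul, pow_orderOf_eq_one, one_pow]
      rwa [hc.mul_pow, pow_mul z, h.zr, one_pow, one_mul] at h3
    have h3 := orderOf_dvd_of_pow_eq_one h2
    rw [Subgroup.orderOf_coe, hk] at h3
    have h4 : k ≠ 0 := by
      rintro rfl
      exact hu1 (orderOf_eq_one_iff.1 hk)
    exact ((hp.dvd_mul).1 ((dvd_pow_self p h4).trans h3)).resolve_left hpr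
  obtain ⟨ψ, hψ, -, h5⟩ := semi hr (h.ord hr) u.2 (by
    rw [Subgroup.orderOf_coe, hk]
    exact fun e => h1 ((Nat.prime_dvd_prime_iff_eq hr hp).1 (hr.dvd_of_dvd_pow e))) hχ h3 hl
  rcases om_cases h.rk hp hU h.cT hψ with e | ⟨e, -⟩ | ⟨j, d, hj, e, -, h6, h7, -⟩
  · exact Or.inl (by simpa using h5 _ e)
  · exact Or.inr (Or.inl (h5 _ e))
  · exact Or.inr (Or.inr ⟨j, hj, h5 _ e, Dvd.intro_left d h6, h7⟩)

end Cfsg.Agent.VAN.E
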