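import Cfsg.Agent.VAN.E.Dat
import Cfsg.Agent.DL.Ex.Fin

/-!
# S4942: certificates for centralisers of relative rank one in split groups (helper5)

`Cf.ok` : a word `w`, a functional `f` with `f ∘ w ≡ q f` modulo `Φ(q)` which vanishes only on the roots spanned by two
simple roots; `rc_of_cert` : the configuration `RC`.
-/

set_option autoImplicit false
set_option linter.unusedSectionVars false

namespace Cfsg.Agent.VAN.E

open CoxeterSystem Cfsg.Agent.ChevalleyStructure.CoxeterGeom Cfsg.Agent.Tits.Roots Cfsg.Agent.DL.Rows.Cert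
  Cfsg.Agent.DL Cfsg.Agent.DL.Base

universe u

/-- `R ∪ -R` contains all roots -/
def rootsOK (T : Ty) (R : List (List ℤ)) : Bool :=
  ((List.range T.l).all fun i => R.contains (T.unit i)) &&
  R.all fun v => v.length == T.l && (List.range T.l).all fun j => forceL (T.reflV j v) fun u =>
    R.contains u || forceL (psmul (-1) u) fun u' => R.contains u'

/-- the data of a certificate -/
structure Cf where
  wd : List ℕ
  gt : List ℤ
  a : ℕ
  b : ℕ
  B : ℕ
  xs : List (List ℤ)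
  Us : List (List ℤ)

def Cf.val (S : Cf) (v : List ℤ) : List ℤ := S.xs.map (dot v)

def Cf.ok (T : Ty) (R : List (List ℤ)) (S : Cf) : Bool :=
  (S.wd.all (· < T.l) && decide (S.a < T.l) && decide (S.b < T.l)) &&
  ((List.range T.l).all fun i => forceL (S.wd.foldr T.reflV (T.unit i)) fun u => u.length == T.l &&
    (red1 S.gt (padd (S.val u) (0 :: psmul (-1) (S.val (T.unit i))))).all (· == 0)) &&
  (S.wd.foldr T.reflV (T.unit S.a) == T.unit S.b && S.wd.foldr T.reflV (T.unit S.b) == T.unit S.a) &&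
  ((S.val (T.unit S.a)).all (· == 0) && (S.val (T.unit S.b)).all (· == 0)) &&
  (S.Us.length == R.length && (R.zip S.Us).all fun z => z.1 == T.unit S.a || z.1 == T.unit S.b ||
    (S.a != S.b && z.1 == mkv T.l fun j => get (T.unit S.a) j + get (T.unit S.b) j) ||
    forceI (lead (redn (S.gt.length - 1) S.gt (forceL (S.val z.1) fun P => pmul z.2 P))) fun c =>
      c != 0 && ((S.B ^ 30 : ℕ) : ℤ) % c == 0)

theorem dvd_of_red1 {gt Q : List ℤ} (h : (red1 gt Q).all (· == 0) = true) (q : ℤ) :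
    peval (1 :: gt) q ∣ peval Q q := by
  cases Q with
  | nil => exact dvd_zero _
  | cons a Q =>
    have h1 := peval_zeros q h
    change peval (forceL (padd Q (psmul (-a) gt)) id) q = 0 at h1
    rw [forceL_eq, id, peval_padd, peval_psmul] at h1
    refine ⟨a, ?_⟩
    rw [peval_cons, peval_cons]
    simp only [Int.cast_id] at h1 ⊢
    linear_combination q * h1

theorem toF_neg (l : ℕ) (u : List ℤ) : toF l (psmul (-1) u) = -toF l u := by
  funext i
  simp only [toF, DL.Rows.Cert.get, psmul, List.getD_eq_getElem?_getD, List.getElem?_map, Pi.neg_apply]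
  cases u[(i : ℕ)]? <;> simp

theorem toF_unit (T : Ty) (i : Fin T.l) : toF T.l (T.unit i) = sr i := by
  funext j
  rw [Ty.unit, toF_mkv, sr, Pi.single_apply]
  simp only [Fin.ext_iff]

section Sound

variable {T : Ty} {W : Type} [Group W] [Finite W] {M : CoxeterMatrix (Fin T.l)} (cs : CoxeterSystem M W)
  {A : Fin T.l → Fin T.l → ℤ} (h : IsCartan M A) (hA : ∀ i j, A i j = DL.Rows.Cert.get (T.row i) j)
  (hT : T.ok = true) {R : List (List ℤ)} (hR : rootsOK T R = true)

include hA hT hR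

theorem root_mem {c : Fin T.l → ℤ} (hc : IsRoot cs h c) :
    ∃ v ∈ R, v.length = T.l ∧ (c = toF T.l v ∨ c = -toF T.l v) := by
  simp only [rootsOK, Bool.and_eq_true, List.all_eq_true, beq_iff_eq, forceL_eq, Bool.or_eq_true,
    List.contains_iff_mem] at hR
  obtain ⟨w, i, rfl⟩ := hc
  induction w using cs.simple_induction_left with
  | one =>
    have h1 := hR.1 i (List.mem_range.2 i.2)
    exact ⟨_, h1, (hR.2 _ h1).1, Or.inl (by rw [map_one, Module.End.one_apply, toF_unit])⟩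
  | mul_simple_left w j ih =>
    obtain ⟨v, hv, -, e⟩ := ih
    have h1 := toF_reflV hA hT j v
    rw [rep_mul_apply, rep_simple]
    rcases (hR.2 v hv).2 j (List.mem_range.2 j.2) with h2 | h2
    · refine ⟨_, h2, (hR.2 _ h2).1, e.imp (fun e => ?_) fun e => ?_⟩
      · rw [e, h1]
      · rw [e, h1, map_neg]
    · refine ⟨_, h2, (hR.2 _ h2).1, e.symm.imp (fun e => ?_) fun e => ?_⟩
      · rw [e, toF_neg, h1, map_neg]
      · rw [e, toF_neg, h1, neg_neg]

theorem Cf.sound {S : Cf} (hS : S.ok T R = true) {r : ℕ} (hr : r.Prime) (hB : ¬ r ∣ S.B) {q : ℤ}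
    (hq : (r : ℤ) ∣ peval (1 :: S.gt) q) : ∃ (a b : Fin T.l) (f : (Fin T.l → ℤ) →+ ℤ), a.1 = S.a ∧ b.1 = S.b ∧
      (∀ i, (r : ℤ) ∣ f (rep cs h (wordEl cs S.wd) (sr i)) - q * f (sr i)) ∧ f (sr a) = 0 ∧ f (sr b) = 0 ∧
      rep cs h (wordEl cs S.wd) (sr a) = sr b ∧ rep cs h (wordEl cs S.wd) (sr b) = sr a ∧
      ∀ c, IsRoot cs h c → 0 ≤ c → (r : ℤ) ∣ f c → c = sr a ∨ c = sr b ∨ (a ≠ b ∧ c = sr a + sr b) := by
  simp only [Cf.ok, Bool.and_eq_true, decide_eq_true_eq, beq_iff_eq] at hS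
  obtain ⟨⟨⟨⟨⟨⟨s1, ha⟩, hb⟩, s2⟩, s3, s4⟩, s5, s6⟩, s7, s8⟩ := hS
  let f : (Fin T.l → ℤ) →+ ℤ := AddMonoidHom.mk' (fun b => ∑ i, b i * vec T.l q S.xs i) fun x y => by
    simp only [Pi.add_apply, add_mul, Finset.sum_add_distrib]
  have hf : ∀ v : List ℤ, v.length = T.l → f (toF T.l v) = peval (S.val v) q := fun v hv => dot_vec hv q S.xs
  have hu : ∀ i : Fin T.l, f (sr i) = peval (S.val (T.unit i)) q := fun i => by
    rw [← toF_unit, hf (T.unit i) (length_mkv _ _)]
  have hw : ∀ i : Fin T.l, rep cs h (wordEl cs S.wd) (sr i) = toF T.l (S.wd.foldr T.reflV (T.unit i)) := fun i => by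
    rw [toF_word cs h hA hT s1, toF_unit]
  refine ⟨⟨_, ha⟩, ⟨_, hb⟩, f, rfl, rfl, fun i => ?_, (hu _).trans (peval_zeros q s5), (hu _).trans (peval_zeros q s6),
    by rw [hw, s3, ← toF_unit], by rw [hw, s4, ← toF_unit], fun c hc h0 hd => ?_⟩
  · have h1 := List.all_eq_true.1 s2 i (List.mem_range.2 i.2)
    rw [forceL_eq, Bool.and_eq_true, beq_iff_eq] at h1
    have h2 := hq.trans (dvd_of_red1 h1.2 q)
    rw [peval_padd, peval_cons, peval_psmul] at h2
    rw [hw, hf _ h1.1, hu]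
    refine (h2.trans (dvd_of_eq ?_))
    push_cast
    ring
  obtain ⟨v, hv, hl, e⟩ := root_mem cs h hA hT hR hc
  have hd' : (r : ℤ) ∣ peval (S.val v) q := by
    rcases e with e | e
    · rwa [e, hf _ hl] at hd
    · rwa [e, map_neg, dvd_neg, hf _ hl] at hd
  have h1 : 0 ≤ toF T.l v → c = toF T.l v := fun h1 =>
    e.resolve_right fun e => hc.not_pos_neg h0 (e ▸ neg_nonpos.2 h1)
  obtain ⟨n, hn, rfl⟩ := List.getElem_of_mem hv
  have hn' : n < S.Us.length := s7 ▸ hn
  have h3 := List.all_eq_true.1 s8 (R[n], S.Us[n]) (by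
    rw [← List.getElem_zip (h := by rw [List.length_zip]; omega)]
    exact List.getElem_mem _)
  simp only [forceI_eq, forceL_eq, Bool.and_eq_true, Bool.or_eq_true, bne_iff_ne, beq_iff_eq] at h3
  have ea := toF_unit T ⟨_, ha⟩
  have eb := toF_unit T ⟨_, hb⟩
  rcases h3 with ((h3 | h3) | h3) | h3
  · rw [h3, ea] at h1
    exact Or.inl (h1 (sr_nonneg _))
  · rw [h3, eb] at h1
    exact Or.inr (Or.inl (h1 (sr_nonneg _)))
  · have h4 : toF T.l R[n] = sr ⟨_, ha⟩ + sr ⟨_, hb⟩ := by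
      rw [h3.2, ← ea, ← eb]
      exact funext fun i => toF_mkv _ _ _
    rw [h4] at h1
    exact Or.inr (Or.inr ⟨fun e => h3.1 (congrArg Fin.val e), h1 (add_nonneg (sr_nonneg _) (sr_nonneg _))⟩)
  · have := Fact.mk hr
    have hg : peval (1 :: S.gt) (q : ZMod r) = 0 := by
      rw [← peval_cast]
      exact (ZMod.intCast_zmod_eq_zero_iff_dvd _ _).2 hq
    have h4 : peval (S.val R[n]) (q : ZMod r) = 0 := by
      rw [← peval_cast]
      exact (ZMod.intCast_zmod_eq_zero_iff_dvd _ _).2 hd'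
    have h5 := lead_eq_zero (ne_zero_of_root hg) (peval_redn hg (S.gt.length - 1)
      (Q := pmul S.Us[n] (S.val R[n])) (by rw [peval_pmul, h4, mul_zero]))
    have h6 := ((ZMod.intCast_zmod_eq_zero_iff_dvd _ _).1 h5).trans (Int.dvd_of_emod_eq_zero h3.2)
    exact absurd (hr.dvd_of_dvd_pow (Int.natCast_dvd_natCast.1 h6)) hB

end Sound

open Cfsg.Lie Cfsg.Agent.ChevalleyStructure Cfsg.Agent.ChevalleyStructure.CoxeterGeomTypes
  Cfsg.Agent.Nodes.RGDChev Cfsg.Agent.BpExc.TowChev Cfsg.Agent.DL.Ex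

/-- **The configuration from a certificate.** -/
theorem rc_of_cert {T : Ty} {C : ChevalleyDatum} {M : CoxeterMatrix (Fin T.l)} (hp : IsType C T.l M)
    (hA : ∀ i j, cartanOf C T.l i j = DL.Rows.Cert.get (T.row i) j) (hT : T.ok = true) {R : List (List ℤ)}
    (hR : rootsOK T R = true) {S : Cf} (hS : S.ok T R = true) {p : ℕ} [Fact p.Prime] {k : Type} [Field k] [CharP k p]
    [IsAlgClosed k] (hk : LocFin k) {e : ℕ} (he : 0 < e) {H : Type u} [Group H] [Finite H] {ι : H →* ↥(C.group k)}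
    {T0 : Subgroup ↥(C.group k)} (O : Over (frobA hp.inList p e) ⊤ T0 ι 1) {r : ℕ} (hr : r.Prime) (hrp : r ≠ p) (hrk : T.l + 1 < r)
    (hB : ¬ r ∣ S.B) (hq : (r : ℤ) ∣ peval (1 :: S.gt) ((p : ℤ) ^ e)) :
    ∃ (z : H) (U V : Subgroup _) (n0 : _), RC p r (e * if S.a = S.b then 1 else 3) z U V n0 ∧ (S.a = S.b → Tr U V) := by
  let D := chev (p := p) hp hk he
  have : Finite M.Group := D.fW
  obtain ⟨a, b, f, ea, eb, h1, h2, h3, h4, h5, h6⟩ := Cf.sound M.toCoxeterSystem hp.isCartan hA hT hR hS hr hB hq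
  obtain ⟨y, hy, hw⟩ := D.exists_type (wordEl M.toCoxeterSystem S.wd)
  have hF : y⁻¹ * frobA hp.inList p e y ∈ D.NN := ⟨_, hw⟩
  have hg : ∀ c, (D.conj hy hF).g c = rep M.toCoxeterSystem hp.isCartan (wordEl M.toCoxeterSystem S.wd) c :=
    fun c => by rw [D.conj_g, hw.pr_eq]; rfl
  have hψ : ∀ c, D.ψ c = ((p : ℤ) ^ e) • c := fun c => funext fun i => Rows.ψ_apply (D := D) (π := id) (fun _ => rfl) c i
  have h7 : ∀ c, (r : ℤ) ∣ f (rep M.toCoxeterSystem hp.isCartan (wordEl M.toCoxeterSystem S.wd) c) - p ^ e * f c :=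
    fun c => by
      have e1 : f (rep M.toCoxeterSystem hp.isCartan (wordEl M.toCoxeterSystem S.wd) c) =
          ∑ i, c i * f (rep M.toCoxeterSystem hp.isCartan (wordEl M.toCoxeterSystem S.wd) (sr i)) :=
        D.map_eq_sum (f.comp (rep M.toCoxeterSystem hp.isCartan (wordEl M.toCoxeterSystem S.wd)).toAddMonoidHom) c
      have e2 : f c = ∑ i, c i * f (sr i) := D.map_eq_sum f c
      rw [e1, e2, Finset.mul_sum, ← Finset.sum_sub_distrib]
      refine Finset.dvd_sum fun i _ => ?_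
      rw [mul_left_comm, ← mul_sub]
      exact (h1 i).mul_left _
  have h7' : ∀ c : Fin T.l → ℤ, (r : ℤ) ∣ f (((p : ℤ) ^ e) • rep M.toCoxeterSystem hp.isCartan
      (wordEl M.toCoxeterSystem S.wd)⁻¹ c) - f c := fun c => by
    have h8 := h7 (rep M.toCoxeterSystem hp.isCartan (wordEl M.toCoxeterSystem S.wd)⁻¹ c)
    rwa [rep_apply_inv, ← dvd_neg, neg_sub, ← smul_eq_mul, ← map_zsmul] at h8
  have h45 : 0 ≤ rep M.toCoxeterSystem hp.isCartan (wordEl M.toCoxeterSystem S.wd) (sr a + sr b) := by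
    rw [map_add, h4, h5]
    exact add_nonneg (sr_nonneg _) (sr_nonneg _)
  obtain ⟨z, U, V, n0, h8, h9⟩ := exists_rc (D.conj hy hF) ι O.inj (fun y => by rw [← O.range_eq]; rfl)
    (fun b => ⟨b, rfl⟩) (a := e) ⟨he, 1, one_pos, fun y => by rw [pow_one, mul_one]; exact coe_frobA hp.inList p e y⟩ hr hrp
    ((congrArg (· + 1) (Fintype.card_fin _)).trans_lt hrk) f (fun c => by
      rw [Rows.conj_ψ, hw.pr_eq, hψ]
      exact h7' c)
    (α := sr a) (β := sr b) ⟨isRoot_sr _ _ a, sr_nonneg _, h2 ▸ dvd_zero _⟩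
    ⟨isRoot_sr _ _ b, sr_nonneg _, h3 ▸ dvd_zero _⟩ ((hg _).trans h4) ((hg _).trans h5) (h45.trans_eq (hg _).symm)
    (if a = b then [sr a] else [sr a, sr b, sr a + sr b]) (fun c hc h0 hd => by
      split_ifs with hab
      · rcases h6 c hc h0 hd with e | e | e
        · exact List.mem_singleton.2 e
        · exact List.mem_singleton.2 (hab ▸ e)
        · exact absurd hab e.1
      · rcases h6 c hc h0 hd with e | e | e
        · exact e ▸ List.mem_cons_self
        · exact e ▸ List.mem_cons_of_mem _ List.mem_cons_self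
        · exact e.2 ▸ List.mem_cons_of_mem _ (List.mem_cons_of_mem _ List.mem_cons_self))
    (fun c hc => by
      split_ifs at hc with hab
      · exact Or.inl (List.mem_singleton.1 hc)
      · exact (List.mem_cons.1 hc).imp id fun hc => (List.mem_cons.1 hc).imp id List.mem_singleton.1)
  have hab : S.a = S.b ↔ a = b := by rw [← ea, ← eb, Fin.ext_iff]
  refine ⟨z, U, V, n0, ?_, fun h => h9 a (if_pos (hab.1 h))⟩
  convert h8 using 2
  simp only [hab]
  split_ifs <;> rfl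

end Cfsg.Agent.VAN.E
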