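import Cfsg.Agent.VAN.E.Cert
import Cfsg.Agent.DL.Rows.Data

/-!
# S4942: the certificates for `E₈` (helper5, generated)
-/

set_option autoImplicit false

namespace Cfsg.Agent.VAN.E

open Cfsg.Agent.DL.Rows.Cert

def rtE8 : List (List ℤ) :=
    [[1, 0, 0, 0, 0, 0, 0, 0], [0, 1, 0, 0, 0, 0, 0, 0], [0, 0, 1, 0, 0, 0, 0, 0], [0, 0, 0, 1, 0, 0, 0, 0], [0, 0,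
    0, 0, 1, 0, 0, 0], [0, 0, 0, 0, 0, 1, 0, 0], [0, 0, 0, 0, 0, 0, 1, 0], [0, 0, 0, 0, 0, 0, 0, 1], [1, 0, 1, 0,
    0, 0, 0, 0], [0, 1, 0, 1, 0, 0, 0, 0], [0, 0, 1, 1, 0, 0, 0, 0], [0, 0, 0, 1, 1, 0, 0, 0], [0, 0, 0, 0, 1, 1,
    0, 0], [0, 0, 0, 0, 0, 1, 1, 0], [0, 0, 0, 0, 0, 0, 1, 1], [1, 0, 1, 1, 0, 0, 0, 0], [0, 1, 1, 1, 0, 0, 0, 0],
    [0, 1, 0, 1, 1, 0, 0, 0], [0, 0, 1, 1, 1, 0, 0, 0], [0, 0, 0, 1, 1, 1, 0, 0], [0, 0, 0, 0, 1, 1, 1, 0], [0, 0,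
    0, 0, 0, 1, 1, 1], [1, 1, 1, 1, 0, 0, 0, 0], [1, 0, 1, 1, 1, 0, 0, 0], [0, 1, 1, 1, 1, 0, 0, 0], [0, 1, 0, 1,
    1, 1, 0, 0], [0, 0, 1, 1, 1, 1, 0, 0], [0, 0, 0, 1, 1, 1, 1, 0], [0, 0, 0, 0, 1, 1, 1, 1], [1, 1, 1, 1, 1, 0,
    0, 0], [1, 0, 1, 1, 1, 1, 0, 0], [0, 1, 1, 2, 1, 0, 0, 0], [0, 1, 1, 1, 1, 1, 0, 0], [0, 1, 0, 1, 1, 1, 1, 0],
    [0, 0, 1, 1, 1, 1, 1, 0], [0, 0, 0, 1, 1, 1, 1, 1], [1, 1, 1, 2, 1, 0, 0, 0], [1, 1, 1, 1, 1, 1, 0, 0], [1, 0,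
    1, 1, 1, 1, 1, 0], [0, 1, 1, 2, 1, 1, 0, 0], [0, 1, 1, 1, 1, 1, 1, 0], [0, 1, 0, 1, 1, 1, 1, 1], [0, 0, 1, 1,
    1, 1, 1, 1], [1, 1, 2, 2, 1, 0, 0, 0], [1, 1, 1, 2, 1, 1, 0, 0], [1, 1, 1, 1, 1, 1, 1, 0], [1, 0, 1, 1, 1, 1,
    1, 1], [0, 1, 1, 2, 2, 1, 0, 0], [0, 1, 1, 2, 1, 1, 1, 0], [0, 1, 1, 1, 1, 1, 1, 1], [1, 1, 2, 2, 1, 1, 0, 0],
    [1, 1, 1, 2, 2, 1, 0, 0], [1, 1, 1, 2, 1, 1, 1, 0], [1, 1, 1, 1, 1, 1, 1, 1], [0, 1, 1, 2, 2, 1, 1, 0], [0, 1,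
    1, 2, 1, 1, 1, 1], [1, 1, 2, 2, 2, 1, 0, 0], [1, 1, 2, 2, 1, 1, 1, 0], [1, 1, 1, 2, 2, 1, 1, 0], [1, 1, 1, 2,
    1, 1, 1, 1], [0, 1, 1, 2, 2, 2, 1, 0], [0, 1, 1, 2, 2, 1, 1, 1], [1, 1, 2, 3, 2, 1, 0, 0], [1, 1, 2, 2, 2, 1,
    1, 0], [1, 1, 2, 2, 1, 1, 1, 1], [1, 1, 1, 2, 2, 2, 1, 0], [1, 1, 1, 2, 2, 1, 1, 1], [0, 1, 1, 2, 2, 2, 1, 1],
    [1, 2, 2, 3, 2, 1, 0, 0], [1, 1, 2, 3, 2, 1, 1, 0], [1, 1, 2, 2, 2, 2, 1, 0], [1, 1, 2, 2, 2, 1, 1, 1], [1, 1,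
    1, 2, 2, 2, 1, 1], [0, 1, 1, 2, 2, 2, 2, 1], [1, 2, 2, 3, 2, 1, 1, 0], [1, 1, 2, 3, 2, 2, 1, 0], [1, 1, 2, 3,
    2, 1, 1, 1], [1, 1, 2, 2, 2, 2, 1, 1], [1, 1, 1, 2, 2, 2, 2, 1], [1, 2, 2, 3, 2, 2, 1, 0], [1, 2, 2, 3, 2, 1,
    1, 1], [1, 1, 2, 3, 3, 2, 1, 0], [1, 1, 2, 3, 2, 2, 1, 1], [1, 1, 2, 2, 2, 2, 2, 1], [1, 2, 2, 3, 3, 2, 1, 0],
    [1, 2, 2, 3, 2, 2, 1, 1], [1, 1, 2, 3, 3, 2, 1, 1], [1, 1, 2, 3, 2, 2, 2, 1], [1, 2, 2, 4, 3, 2, 1, 0], [1, 2,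
    2, 3, 3, 2, 1, 1], [1, 2, 2, 3, 2, 2, 2, 1], [1, 1, 2, 3, 3, 2, 2, 1], [1, 2, 3, 4, 3, 2, 1, 0], [1, 2, 2, 4,
    3, 2, 1, 1], [1, 2, 2, 3, 3, 2, 2, 1], [1, 1, 2, 3, 3, 3, 2, 1], [2, 2, 3, 4, 3, 2, 1, 0], [1, 2, 3, 4, 3, 2,
    1, 1], [1, 2, 2, 4, 3, 2, 2, 1], [1, 2, 2, 3, 3, 3, 2, 1], [2, 2, 3, 4, 3, 2, 1, 1], [1, 2, 3, 4, 3, 2, 2, 1],
    [1, 2, 2, 4, 3, 3, 2, 1], [2, 2, 3, 4, 3, 2, 2, 1], [1, 2, 3, 4, 3, 3, 2, 1], [1, 2, 2, 4, 4, 3, 2, 1], [2, 2,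
    3, 4, 3, 3, 2, 1], [1, 2, 3, 4, 4, 3, 2, 1], [2, 2, 3, 4, 4, 3, 2, 1], [1, 2, 3, 5, 4, 3, 2, 1], [2, 2, 3, 5,
    4, 3, 2, 1], [1, 3, 3, 5, 4, 3, 2, 1], [2, 3, 3, 5, 4, 3, 2, 1], [2, 2, 4, 5, 4, 3, 2, 1], [2, 3, 4, 5, 4, 3,
    2, 1], [2, 3, 4, 6, 4, 3, 2, 1], [2, 3, 4, 6, 5, 3, 2, 1], [2, 3, 4, 6, 5, 4, 2, 1], [2, 3, 4, 6, 5, 4, 3, 1],
    [2, 3, 4, 6, 5, 4, 3, 2]]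

theorem rtE8_ok : rootsOK tyE8 rtE8 = true := by decide +kernel

def cf7 : Cf where
  wd := [1, 3, 4, 5, 6, 7]
  gt := [1, 1, 1, 1, 1, 1]
  a := 0
  b := 0
  B := 210
  xs :=
    [[0, 1, -1, 0, 0, 0, 0, 1], [0, -1, -1, 1, 0, 0, 0, 1], [0, 0, 0, -1, 1, 0, 0, 1], [0, 0, 0, 0, -1, 1, 0, 1],
    [0, 0, 0, 0, 0, -1, 1, 1], [0, 0, 0, 0, 0, 0, -1, 2]]
  Us :=
    [[], [-1, -2, -3, -4, -5, 1], [-1, 0, -1, 0, -1, -1], [-1, -2, -3, -4, 2, 1], [-1, -2, -3, 3, 2, 1], [-1, -2,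
    4, 3, 2, 1], [-1, 5, 4, 3, 2, 1], [6, 5, 4, 3, 2, 1], [-1, 0, -1, 0, -1, -1], [3, -1, 2, -2, 1, 4], [1, 1, 0,
    0, 1, 0], [-4, -1, -5, -2, 1, -3], [3, -1, 2, 5, 1, 4], [-4, -1, 2, -2, 1, -3], [3, 6, 2, 5, 1, 4], [1, 1, 0,
    0, 1, 0], [1, 0, 1, 0, 0, 1], [2, 4, -1, 1, 3, 5], [0, 0, -1, -1, -1, -1], [2, -3, -1, 1, 3, -2], [-5, -3, -1,
    1, -4, -2], [2, 4, 6, 1, 3, 5], [1, 0, 1, 0, 0, 1], [0, 0, -1, -1, -1, -1], [0, -1, -1, 0, -1, -1], [-2, -4, 1,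
    -1, -3, 2], [0, 0, 1, 1, 1, 0], [-2, 3, 1, -1, 4, 2], [5, 3, 1, 6, 4, 2], [0, -1, -1, 0, -1, -1], [0, 0, 1, 1,
    1, 0], [-1, 0, -1, -1, 0, -1], [0, -1, -1, -1, -1, 0], [-3, 1, -2, 2, -1, 3], [-1, -1, 0, 0, -1, -1], [4, 1, 5,
    2, 6, 3], [-1, 0, -1, -1, 0, -1], [0, -1, -1, -1, -1, 0], [-1, -1, 0, 0, -1, -1], [-1, -1, 0, -1, -1, 0], [0,
    1, 1, 1, 0, 0], [1, 2, 3, 4, 5, 6], [1, 0, 1, 0, 1, 0], [0, 0, -1, 0, 0, -1], [-1, -1, 0, -1, -1, 0], [0, 1, 1,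
    1, 0, 0], [1, 0, 1, 0, 1, 0], [1, 0, 0, 1, 0, 1], [-1, -1, -1, -1, 0, 0], [0, 1, 1, 0, 0, 1], [0, -1, 0, -1,
    -1, -1], [1, 0, 0, 1, 0, 1], [-1, -1, -1, -1, 0, 0], [0, 1, 1, 0, 0, 1], [0, 1, 0, 0, 1, 1], [1, 1, 1, 0, 0,
    0], [0, 0, -1, 0, -1, 0], [-1, 0, 0, -1, -1, -1], [0, 1, 0, 0, 1, 1], [1, 1, 1, 0, 0, 0], [-1, -1, 0, -1, 0,
    -1], [0, 0, 0, 1, 1, 1], [0, -1, -1, -1, 0, -1], [0, 0, 0, 0, -1, -1], [1, 1, 1, 0, 1, 1], [-1, -1, 0, -1, 0,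
    -1], [0, 0, 0, 1, 1, 1], [1, 0, 0, 1, 1, 0], [0, -1, 0, 0, -1, 0], [0, 0, -1, -1, 0, 0], [-1, 0, 0, 0, 0, -1],
    [1, 1, 0, 1, 0, 0], [1, 0, 0, 1, 1, 0], [0, 1, 0, 1, 0, 1], [-1, 0, -1, -1, -1, 0], [-1, -1, 0, 0, 0, 0], [0,
    0, 0, -1, 0, -1], [1, 0, 1, 1, 0, 0], [0, 1, 0, 1, 0, 1], [0, -1, 0, -1, 0, 0], [1, 1, 0, 0, 0, 1], [-1, -1,
    -1, 0, 0, -1], [1, 1, 1, 1, 1, 0], [-1, 0, 0, 0, -1, 0], [-1, -1, -1, 0, -1, 0], [0, 0, 0, -1, -1, 0], [1, 0,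
    1, 1, 1, 1], [0, 1, 1, 0, 1, 0], [-1, 0, 0, -1, 0, 0], [0, -1, -1, 0, 0, 0], [1, 1, 1, 1, 0, 1], [0, 1, 0, 1,
    1, 0], [-1, -1, -1, -1, -1, -1], [1, 0, 0, 0, 1, 1], [0, 1, 1, 1, 1, 1], [0, -1, 0, 0, 0, -1], [-1, -1, -1, -1,
    -1, -1], [1, 0, 0, 0, 0, 0], [-1, 0, -1, 0, 0, 0], [0, 0, 1, 1, 0, 1], [1, 0, 0, 0, 0, 0], [0, 1, 0, 0, 0, 0],
    [0, 0, 1, 0, 1, 1], [0, 1, 0, 0, 0, 0], [0, 0, 1, 0, 0, 0], [1, 1, 0, 1, 1, 1], [0, 0, 1, 0, 0, 0], [0, 0, 0,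
    1, 0, 0], [0, 0, 0, 1, 0, 0], [0, 0, 0, 0, 1, 0], [0, 0, 0, 0, 1, 0], [0, 0, 0, 0, 0, 1], [0, 0, 0, 0, 0, 1],
    [0, 0, 0, 0, 0, -1], [0, 0, 0, 0, -1, 0], [0, 0, 0, -1, 0, 0], [0, 0, -1, 0, 0, 0], [0, -1, 0, 0, 0, 0], [-1,
    0, 0, 0, 0, 0], [1, 1, 1, 1, 1, 1]]

theorem cf7_ok : cf7.ok tyE8 rtE8 = true := by decide +kernel

def cf18 : Cf where
  wd :=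
    [3, 4, 2, 3, 0, 2, 1, 3, 4, 5, 6, 7, 4, 3, 2, 1, 3, 4, 5, 6, 0, 2, 3, 4, 5, 1, 3, 4, 2, 3, 0, 2, 1, 3, 4, 5, 6,
    7, 2, 3, 4, 5, 1, 3, 4, 2, 3, 0, 2, 1, 3, 4, 5, 6, 1, 3, 4, 2, 3, 0, 2, 1, 3, 4, 5, 4, 3, 2, 1, 3, 4, 0, 2, 3,
    0, 2, 1]
  gt := [0, 0, -1, 0, 0, 1]
  a := 6
  b := 7
  B := 210
  xs :=
    [[2, -1, -1, 2, -2, 1, 0, 0], [-2, 4, 1, -2, -1, 1, 0, 0], [-1, -4, -1, 2, 1, 0, 0, 0], [-1, 2, 2, -4, 4, -2,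
    0, 0], [4, -2, -2, 1, -1, 1, 0, 0], [-1, 2, -1, 2, -2, 0, 0, 0]]
  Us :=
    [[1, 2, 1, 0, -1, -1], [2, 2, 2, 0, 0, -1], [-1, -1, 0, 0, 0, 0], [2, 1, 0, -2, -2, -2], [1, 1, 2, 0, 0, -1],
    [-1, 0, -1, 1, 1, 1], [], [], [-1, -1, -1, -1, 0, 0], [2, 1, 1, -1, -1, -1], [0, -1, -1, 0, 0, 0], [1, 1, 1, 0,
    -1, -1], [-1, 0, 1, 1, 1, 0], [-1, 0, -1, 1, 1, 1], [], [0, 0, -1, -1, -1, 0], [0, -1, -1, -1, 0, 0], [1, 0, 1,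
    0, 0, -1], [0, -1, -1, -1, -1, 0], [0, 0, 1, 2, 1, 0], [-1, 0, 1, 1, 1, 0], [-1, 0, -1, 1, 1, 1], [1, 0, 0, -2,
    -1, -1], [1, 1, 0, -1, -2, -1], [1, 0, 0, -2, -2, -2], [1, 0, 1, 0, 1, 0], [-1, -1, -1, 1, 0, 1], [0, 0, 1, 2,
    1, 0], [-1, 0, 1, 1, 1, 0], [1, 1, 1, -1, -1, -1], [-3, -2, -2, 2, 2, 3], [1, 0, 0, -1, -1, -1], [-1, -2, -1,
    1, 2, 1], [1, 0, 1, 0, 1, 0], [-1, -1, -1, 1, 0, 1], [0, 0, 1, 2, 1, 0], [1, 1, 0, -1, -1, 0], [0, 1, 2, 2, 2,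
    1], [-3, -2, -2, 2, 2, 3], [-2, -3, -3, 0, 1, 2], [-1, -2, -1, 1, 2, 1], [1, 0, 1, 0, 1, 0], [-1, -1, -1, 1, 0,
    1], [0, 0, 0, -1, -1, 0], [3, 3, 2, -1, -2, -2], [0, 1, 2, 2, 2, 1], [-3, -2, -2, 2, 2, 3], [2, 2, 3, 1, 0,
    -1], [-2, -3, -3, 0, 1, 2], [-1, -2, -1, 1, 2, 1], [0, -1, -1, -1, 0, 1], [1, 1, 1, 0, -1, 0], [3, 3, 2, -1,
    -2, -2], [0, 1, 2, 2, 2, 1], [2, 2, 3, 1, 0, -1], [-2, -3, -3, 0, 1, 2], [-1, -2, -2, -2, -1, 0], [0, -1, -1,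
    -1, 0, 1], [1, 1, 1, 0, -1, 0], [3, 3, 2, -1, -2, -2], [0, -1, 0, 1, 1, 1], [2, 2, 3, 1, 0, -1], [0, 0, 0, -1,
    -2, -1], [-1, -2, -2, -2, -1, 0], [0, -1, -1, -1, 0, 1], [0, 1, 0, 1, 0, 1], [1, 1, 1, 0, -1, 0], [0, -1, 0, 1,
    1, 1], [2, 1, 0, -2, -1, -1], [0, 0, 0, -1, -2, -1], [-1, -1, 0, 0, 1, 1], [-1, -2, -2, -2, -1, 0], [0, 1, 0,
    1, 0, 1], [0, -1, 0, 1, 1, 1], [2, 1, 0, -2, -1, -1], [-1, -1, -2, 0, 1, 2], [0, 0, 0, -1, -2, -1], [-1, -1, 0,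
    0, 1, 1], [0, 1, 0, 1, 0, 1], [-2, -2, -1, 2, 3, 3], [2, 1, 0, -2, -1, -1], [-1, 0, 1, 3, 2, 2], [-1, -1, -2,
    0, 1, 2], [-1, -1, 0, 0, 1, 1], [0, 1, 2, 1, 0, 0], [-2, -2, -1, 2, 3, 3], [-1, 0, 1, 3, 2, 2], [-1, -1, -2, 0,
    1, 2], [2, 1, 1, 0, 0, -1], [0, 1, 2, 1, 0, 0], [-2, -2, -1, 2, 3, 3], [-1, 0, 1, 3, 2, 2], [-1, -2, -1, 0, 0,
    0], [2, 1, 1, 0, 0, -1], [0, 1, 2, 1, 0, 0], [-1, 0, 0, 1, 0, 1], [2, 1, 0, -3, -3, -2], [-1, -2, -1, 0, 0, 0],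
    [2, 1, 1, 0, 0, -1], [0, 0, 0, 0, 1, 1], [2, 1, 0, -3, -3, -2], [-1, -2, -1, 0, 0, 0], [0, 0, 0, 1, 1, 1], [2,
    1, 0, -3, -3, -2], [0, -1, -1, 0, 1, 1], [0, 0, 1, 1, 0, 0], [-1, -1, -1, 1, 1, 2], [-1, -1, 0, 1, 1, 1], [0,
    0, 1, 1, 1, 1], [-2, -2, -1, 2, 2, 2], [1, 2, 2, 1, 0, 0], [0, 0, 1, 2, 2, 1], [1, 1, 1, 0, 0, 0], [-1, -1, -1,
    0, 0, 1], [-2, -2, -2, 0, 1, 2], [0, -1, -2, -2, -1, 0], [2, 2, 2, -1, -2, -2], [-1, 0, 0, 1, 1, 2], [-1, 0, 0,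
    1, 1, 2], [-1, 0, 0, 1, 1, 2]]

theorem cf18_ok : cf18.ok tyE8 rtE8 = true := by decide +kernel

end Cfsg.Agent.VAN.E
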