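import Cfsg.Agent.VAN.E.DatE8
import Cfsg.Agent.VAN.E.Abs
import Cfsg.Agent.VAN.Rk.Kaw

/-!
# S4942: the row `E₈` (helper5)

The three elements: a `Φ₂₀`-element, a regular element of the torus `Φ₇ Φ₁ Φ₂`, and the product of a `Φ₁₈`-element with
a unipotent element of its centraliser.
-/

set_option autoImplicit false

namespace Cfsg.Agent.VAN.E

open Cfsg Cfsg.Agent.H727.TC Cfsg.Agent.H448.Van Cfsg.Agent.H730.OZ Cfsg.Lie Cfsg.Agent.DL.Rows.Cert
  Cfsg.Agent.ChevalleyStructure.CoxeterGeomTypes Cfsg.Agent.Nodes.RGDChev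

universe u

theorem cong_ord {b r D : ℕ} (hr : r.Prime) (h2 : 2 < r) (ho : orderOf (b : ZMod r) = D) (hD : 0 < D) {e s : ℤ}
    (he : e = 1 ∨ e = -1) (hs : s = 1 ∨ s = -1) {m j : ℕ} (h : (r : ℤ) ∣ e * b ^ m - s * b ^ j) :
    2 * m ≡ 2 * j [MOD D] ∧ (e = s ↔ m ≡ j [MOD D]) := by
  have := Fact.mk hr
  subst ho
  have hx := orderOf_pos_iff.1 hD
  have h1 := (ZMod.intCast_zmod_eq_zero_iff_dvd _ r).2 h
  have h3 : (2 : ZMod r) ≠ 0 := fun h0 =>
    absurd (Nat.le_of_dvd two_pos ((ZMod.natCast_eq_zero_iff 2 r).1 (by exact_mod_cast h0))) (by omega)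
  have h4 : (b : ZMod r) ^ j ≠ 0 := (hx.isUnit.pow j).ne_zero
  rw [← hx.pow_eq_pow_iff_modEq, ← hx.pow_eq_pow_iff_modEq, pow_mul', pow_mul']
  rcases he with rfl | rfl <;> rcases hs with rfl | rfl <;> push_cast at h1
  · have h5 : (b : ZMod r) ^ m = b ^ j := by linear_combination h1
    exact ⟨by rw [h5], by simp [h5]⟩
  · have h5 : (b : ZMod r) ^ m = -b ^ j := by linear_combination h1
    exact ⟨by rw [h5, neg_sq], by omega, fun h6 => absurd (by linear_combination h5 - h6) (mul_ne_zero h3 h4)⟩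
  · have h5 : (b : ZMod r) ^ m = -b ^ j := by linear_combination -h1
    exact ⟨by rw [h5, neg_sq], by omega, fun h6 => absurd (by linear_combination h5 - h6) (mul_ne_zero h3 h4)⟩
  · have h5 : (b : ZMod r) ^ m = b ^ j := by linear_combination -h1
    exact ⟨by rw [h5], by simp [h5]⟩

theorem cong_nat {b r D m j : ℕ} (ho : orderOf (b : ZMod r) = D) (hD : 0 < D) (h : b ^ m ≡ b ^ j [MOD r]) :
    m ≡ j [MOD D] := by
  subst ho
  rw [← (orderOf_pos_iff.1 hD).pow_eq_pow_iff_modEq]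
  exact_mod_cast (ZMod.natCast_eq_natCast_iff _ _ _).2 h

theorem pow_ne_one {r D : ℕ} {x : ZMod r} (ho : orderOf x = D) {n : ℕ} (hn : ¬ D ∣ n) : x ^ n - 1 ≠ 0 :=
  fun h => hn (ho ▸ orderOf_dvd_of_pow_eq_one (sub_eq_zero.1 h))

theorem phi7 {r q : ℕ} (hr : r.Prime) (ho : orderOf (q : ZMod r) = 7) : (r : ℤ) ∣ peval (1 :: cf7.gt) (q : ℤ) := by
  have := Fact.mk hr
  rw [← ZMod.intCast_zmod_eq_zero_iff_dvd, peval_cast]
  have h1 := pow_orderOf_eq_one (q : ZMod r)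
  rw [ho] at h1
  refine mul_left_cancel₀ (pow_ne_one ho (n := 1) (by norm_num)) ?_
  simp only [cf7, peval_cons, peval_nil]
  push_cast
  linear_combination h1

theorem phi18 {r q : ℕ} (hr : r.Prime) (ho : orderOf (q : ZMod r) = 18) : (r : ℤ) ∣ peval (1 :: cf18.gt) (q : ℤ) := by
  have := Fact.mk hr
  rw [← ZMod.intCast_zmod_eq_zero_iff_dvd, peval_cast]
  have h1 := pow_orderOf_eq_one (q : ZMod r)
  rw [ho] at h1
  refine mul_left_cancel₀ (mul_ne_zero (pow_ne_one ho (n := 9) (by norm_num)) (pow_ne_one ho (n := 6) (by norm_num))) ?_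
  simp only [cf18, peval_cons, peval_nil]
  push_cast
  linear_combination ((q : ZMod r) ^ 3 - 1) * h1

theorem not_dvd_cube {q : ℕ} (hq : 2 ≤ q) : ¬ q ^ 3 + q ∣ q ^ 3 * (q ^ 3 + 1) := fun h => by
  have h1 : q ^ 2 + 1 ∣ q ^ 2 * (q ^ 3 + 1) :=
    Nat.dvd_of_mul_dvd_mul_left (k := q) (by omega) (by convert h using 1 <;> ring)
  have h2 : q ^ 2 + 1 ∣ q ^ 3 + 1 := (Nat.Coprime.dvd_mul_left (by
    rw [Nat.Coprime, Nat.gcd_self_add_left]; exact Nat.gcd_one_left _)).1 h1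
  have h3 := Nat.dvd_sub (Dvd.intro_left q rfl : q ^ 2 + 1 ∣ q * (q ^ 2 + 1)) h2
  have h4 : q * (q ^ 2 + 1) - (q ^ 3 + 1) = q - 1 := by
    rw [show q * (q ^ 2 + 1) = q ^ 3 + q by ring]
    omega
  have := Nat.le_of_dvd (by omega) (h4 ▸ h3)
  nlinarith [Nat.sub_le q 1]

theorem v_E8 {F : Type} [Field F] [Fintype F] {p a : ℕ} (hp : p.Prime) (ha : 0 < a) (hF : Fintype.card F = p ^ a) :
    (Nat.card ↥(chevE8.group F)).factorization p = 120 * a := by
  have hG := Cfsg.Agent.S1065.result hF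
  have hL : (([2, 8, 12, 14, 18, 20, 24, 30] : List ℕ).map fun d => (p ^ a) ^ d - 1).prod =
      ((p ^ a) ^ 2 - 1) * ((p ^ a) ^ 8 - 1) * ((p ^ a) ^ 12 - 1) * ((p ^ a) ^ 14 - 1) * ((p ^ a) ^ 18 - 1) *
      ((p ^ a) ^ 20 - 1) * ((p ^ a) ^ 24 - 1) * ((p ^ a) ^ 30 - 1) := by
    simp only [List.map_cons, List.map_nil, List.prod_cons, List.prod_nil, mul_one, mul_assoc]
  have hG' : 1 * Nat.card ↥(chevE8.group F) =
      p ^ (120 * a) * (([2, 8, 12, 14, 18, 20, 24, 30] : List ℕ).map fun d => (p ^ a) ^ d - 1).prod := by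
    rw [one_mul, hG, hL]
    simp only [← pow_mul]
    rw [mul_comm a 120]
    ring
  exact fact_of hp (fun h => hp.one_lt.ne' (Nat.dvd_one.1 h))
    (not_dvd_prod hp ha (fun d hd => by simp at hd; omega)) Nat.card_pos.ne' hG'

theorem big_of_prime {r : ℕ} (hr : r.Prime) (h : 7 < r) : 9 < r ∧ ¬ r ∣ 210 := by
  refine ⟨?_, fun hd => ?_⟩
  · by_contra h1
    obtain rfl | rfl : r = 8 ∨ r = 9 := by omega
    all_goals exact absurd hr (by norm_num)
  · have h1 : r ∣ 2 * (3 * (5 * 7)) := hd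
    simp only [hr.dvd_mul] at h1
    rcases h1 with h1 | h1 | h1 | h1 <;> have := Nat.le_of_dvd (by norm_num) h1 <;> omega

/-- **`E₈(q)`** -/
theorem row_e8 : VAN.Row.{u} (fun G _ => Lie.IsoE8 G) := by
  rintro G _ _ hs _ ⟨F, i1, i2, ⟨e⟩⟩
  obtain ⟨p, a, hp', _, _, ha, hF, hk⟩ := DL.Ex.exists_closure F
  have hp : p.Prime := hp'.out
  have : IsSimpleGroup ↥(chevE8.group F) := (MulEquiv.isSimpleGroup_congr e).1 hs
  have : Finite ↥(chevE8.group F) := Finite.of_equiv _ e.toEquiv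
  have hK := H279.OZ.kaw_of_hasRGD hp (Nodes.RGDChev.hasRGD_E8 F p)
  have hv := v_E8 hp ha hF
  have hc := hK.card
  rw [hv] at hc
  have hT : IsType chevE8 8 CoxeterMatrix.E₈ := by simp [IsType, typeList]
  have O := DL.Ex.over_E8 (algebraMap F (AlgebraicClosure F)) hF hT
  obtain ⟨r, hr, hro⟩ := good_E8 (m := 20) hp ha hF (Or.inr (Or.inl rfl))
  have hr4 := H504.TC.four_le hr.prime (by omega) hro
  obtain ⟨x, hx⟩ := Isol.of_iso hr.iso (by omega)
  obtain ⟨s, hs, hsp, hso, hsq, hsa⟩ := exists_prim (d := 7) hp ha (by omega) (by omega)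
  obtain ⟨t, ht, htp, hto, htq, hta⟩ := exists_prim (d := 18) hp ha (by omega) (by omega)
  have hs9 := big_of_prime hs (by omega)
  have ht9 := big_of_prime ht (by omega)
  obtain ⟨z, U, V, n0, h1, h2⟩ := rc_of_cert (T := tyE8) hT (by decide +kernel) okE8 rtE8_ok cf7_ok hk ha O hs hsp
    hs9.1 hs9.2 (by exact_mod_cast phi7 hs hsq)
  obtain ⟨z', U', V', n0', h3, -⟩ := rc_of_cert (T := tyE8) hT (by decide +kernel) okE8 rtE8_ok cf18_ok hk ha O ht htp
    ht9.1 ht9.2 (by exact_mod_cast phi18 ht htq)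
  obtain ⟨v, -, hv1, hU, hv2⟩ := h1.card_U hp hs
  obtain ⟨w, -, hw1, hU', hw2⟩ := h3.card_U hp ht
  replace hv1 : v ≤ a * 1 := hv1
  replace hw1 : w ≤ a * 3 := hw1
  rw [hc] at hv2 hw2
  obtain rfl : a = v := by
    have h4 : 2 * a ≡ 2 * (120 * a) [MOD a * 7] := (Nat.modEq_iff_dvd' (by omega)).2 ⟨34, by omega⟩
    have := (h4.trans (cong_nat hso (by omega) hv2)).eq_of_lt_of_lt (by omega) (by omega)
    omega
  obtain rfl : w = a * 3 := by
    have h4 : 6 * a ≡ 2 * (120 * a) [MOD a * 18] := (Nat.modEq_iff_dvd' (by omega)).2 ⟨13, by omega⟩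
    have := (h4.trans (cong_nat hto (by omega) hw2)).eq_of_lt_of_lt (by omega) (by omega)
    omega
  have h5 : ∀ σ : ℤ, σ = 1 ∨ σ = -1 → ¬ (s : ℤ) ∣ (p : ℤ) ^ a - σ := fun σ hσ hd => by
    have := (cong_ord hs (by omega) hsq (by omega) (Or.inl rfl) hσ (m := 1) (j := 0) (by simpa using hd)).1
    simp [Nat.ModEq] at this
  obtain ⟨y, hy⟩ := h1.ell hp hs (h2 rfl) hU (fun hd => h5 1 (Or.inl rfl) (by
      have := Int.natCast_dvd_natCast.2 hd
      rwa [Nat.cast_sub (Nat.one_le_pow _ _ hp.pos), Nat.cast_pow] at this)) hsp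
    fun hd => h5 (-1) (Or.inr rfl) (by rw [sub_neg_eq_add]; exact_mod_cast hd)
  obtain ⟨g, hg, hg'⟩ := h3.uni hp ht hU' htp
  refine Van3.of_equiv (Rk.van3_of_mid hp hK x y hg ?_) e.symm
  rintro χ ⟨hχx, hχy, m, ε, hε, hm, hm0, hm1⟩
  by_contra hχg
  have hO : Om p χ.1 (ε * p ^ m) := by rw [Om, hm]; push_cast; rfl
  obtain ⟨a1, a2⟩ := cong_ord hr.prime (by omega) hro (by omega) hε (Or.inl rfl) (m := m) (j := 0) (by
    simpa using hx.cong hp χ (hx.not_dvd χ (isPPart_self hx.prime hx.ord) (Subgroup.mem_zpowers x) hχx) hm)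
  obtain ⟨k, hk'⟩ := Nat.modEq_zero_iff_dvd.1 a1
  obtain rfl : m = a * (10 * k) := by linarith
  rw [Nat.modEq_zero_iff_dvd, Nat.mul_dvd_mul_iff_left ha] at a2
  have hk0 : k < 24 := by
    by_contra h6
    rw [hv] at hm1
    nlinarith
  have hk1 : k = 5 ∨ k = 19 ∨ k = 10 ∨ k = 14 := by
    have h0 : k ≠ 0 := by
      rintro rfl
      simp at hm0
    have h6 : ∀ (σ : ℤ) (j : ℕ), σ = 1 ∨ σ = -1 → (s : ℤ) ∣ ε * p ^ (a * (10 * k)) - σ * p ^ (a * j) →
        2 * (10 * k) % 7 = 2 * j % 7 ∧ (ε = σ ↔ 10 * k % 7 = j % 7) := fun σ j hσ hd =>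
      cong_ord hs (by omega) hsq (by omega) hε hσ (by push_cast; rwa [← pow_mul, ← pow_mul])
    rcases hy χ.1 χ.2 hχy _ hO with h | h | h
    · have := h6 (-1) 1 (Or.inr rfl) (by simpa using h)
      omega
    · have := h6 1 0 (Or.inl rfl) (by simpa using h)
      omega
    · have := h6 1 2 (Or.inl rfl) (by rwa [one_mul, mul_comm a 2])
      omega
  have h6 : ∀ (σ : ℤ) (j : ℕ), σ = 1 ∨ σ = -1 → (t : ℤ) ∣ ε * p ^ (a * (10 * k)) - σ * p ^ j → j ≤ a * 6 →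
      j = a ∨ j = a * 5 := fun σ j hσ hd hj => by
    have h7 := (cong_ord ht (by omega) hto (by omega) hε hσ hd).1
    have h8 : ∀ i c, 20 * k = 2 * i + 18 * c → i < 9 → j = a * i := fun i c h9 hi => by
      have h10 : 2 * (a * i) ≡ 2 * (a * (10 * k)) [MOD a * 18] :=
        (Nat.modEq_iff_dvd' (by nlinarith)).2 ⟨c, Nat.sub_eq_of_eq_add (by nlinarith)⟩
      have := (h10.trans h7).eq_of_lt_of_lt (by nlinarith) (by omega)
      omega
    rcases hk1 with rfl | rfl | rfl | rfl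
    · exact Or.inr (h8 5 5 rfl (by omega))
    · exact Or.inl ((h8 1 21 rfl (by omega)).trans (mul_one a))
    · exact Or.inl ((h8 1 11 rfl (by omega)).trans (mul_one a))
    · exact Or.inr (h8 5 15 rfl (by omega))
  have h7 := not_dvd_cube (q := p ^ a) (hp.two_le.trans (Nat.le_self_pow ha.ne' p))
  rw [← pow_mul] at h7
  rcases hg' χ.1 χ.2 hχg _ hO with h | h | ⟨j, hj, h, h8, h9⟩
  · have := h6 (-1) (a * 3) (Or.inr rfl) (by simpa using h) (by omega)
    omega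
  · have := h6 1 (a * 3) (Or.inl rfl) (by simpa using h) (by omega)
    omega
  · rcases h6 1 j (Or.inl rfl) (by simpa using h) (by omega) with rfl | rfl
    · exact h7 h8
    · rw [show 2 * (a * 3) - a * 5 = a by omega] at h9
      exact h7 h9

end Cfsg.Agent.VAN.E
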