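import Cfsg.Agent.H695.OneZero.RankOnePel
import Cfsg.Agent.H956.OZ.RankOne
import Cfsg.Agent.H730.OZ.Top
import Cfsg.Agent.H732.VZ.Congr
import Cfsg.Agent.Blocks.ClassSum

/-!
# S4942: sums over the `p`-elements modulo `r` (helper5)

* `semi` : `χ (z c) ≠ 0` for an `r`-element `z` and an `r'`-element `c` of its centraliser gives a character `ψ` of the
  centraliser with `ψ c ≠ 0` whose central character on the `p`-elements is congruent to the one of `χ`;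
* `om_cases` : the values of this central character in a group of rank one.
-/

set_option autoImplicit false

namespace Cfsg.Agent.VAN.E

open Cfsg Cfsg.Agent.Characters Cfsg.Agent.H730.OZ Cfsg.Agent.H695.OneZero Cfsg.Agent.Blocks.Basic

universe u

variable {G : Type u} [Group G]

/-- the central character on the `p`-elements is `ω` -/
def Om (p : ℕ) (χ : G → ℂ) (ω : ℤ) : Prop := ∑ᶠ u ∈ pSet p G, χ u = (ω : ℂ) * χ 1

theorem conj_mem_pSet {p : ℕ} (g h : G) : h * g * h⁻¹ ∈ pSet p G ↔ g ∈ pSet p G := by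
  have e : orderOf (h * g * h⁻¹) = orderOf g :=
    orderOf_injective (MulAut.conj h).toMonoidHom (MulAut.conj h).injective g
  show (∃ k : ℕ, orderOf (h * g * h⁻¹) = p ^ k) ↔ ∃ k : ℕ, orderOf g = p ^ k
  rw [e]

theorem Om.sum_eq [Fintype G] {p : ℕ} {χ : G → ℂ} {ω : ℤ} (h : Om p χ ω) (h1 : χ 1 ≠ 0) [DecidablePred (· ∈ pSet p G)] :
    ∑ g : G, (if g ∈ pSet p G then (1 : ℂ) else 0) * (χ g / χ 1) = ω := by
  rw [Om, finsum_pSet] at h
  rw [Finset.sum_congr rfl (g := fun g => if g ∈ pSet p G then χ g / χ 1 else 0) fun g _ => by split_ifs <;> simp,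
    ← Finset.sum_filter, ← Finset.sum_div, h, mul_div_cancel_right₀ _ h1]

/-- **The congruence.** -/
theorem semi [Finite G] {p r : ℕ} (hr : r.Prime) {z c : G} (hz : ∃ k : ℕ, orderOf z = r ^ k)
    (hc : c ∈ Subgroup.centralizer ({z} : Set G)) (hcr : ¬ r ∣ orderOf c) {χ : G → ℂ} (hχ : IsIrrCharacter G χ)
    (h0 : χ (z * c) ≠ 0) {lam : ℤ} (hs : Om p χ lam) :
    ∃ ψ : Subgroup.centralizer ({z} : Set G) → ℂ, IsIrrCharacter _ ψ ∧ ψ ⟨c, hc⟩ ≠ 0 ∧
      ∀ ω : ℤ, Om p ψ ω → (r : ℤ) ∣ lam - ω := by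
  classical
  have := Fintype.ofFinite G
  have : Fact r.Prime := ⟨hr⟩
  obtain ⟨M, hM⟩ := Cfsg.Agent.Blocks.ExistsModular.exists_isPModular hr
  have hMp : M.IsPrime := hM.2.1.isPrime
  have hfin := Core.finite_irr (G := Subgroup.centralizer ({z} : Set G))
  have : Fintype (IrrCharacter (Subgroup.centralizer ({z} : Set G))) := Fintype.ofFinite _
  have hB : IsPBlock M (blockOf M χ) := ⟨⟨χ, hχ⟩, rfl⟩
  have h1 := apply_eq_sum_induced hM hz hB (mem_blockOf_self ⟨χ, hχ⟩)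
    (Finset.univ.filter fun ψ => IsInducedBlock M (Subgroup.centralizer ({z} : Set G)) (blockOf M ψ.1) (blockOf M χ))
    (fun ψ => by simp) ⟨c, hc⟩ (by rwa [Subgroup.orderOf_mk])
  obtain ⟨ψ, hψ, h2⟩ := Finset.exists_ne_zero_of_sum_ne_zero (fun h => h0 (h1.trans h))
  refine ⟨ψ.1, ψ.2, right_ne_zero_of_mul h2, fun ω hω => ?_⟩
  have h3 := (Finset.mem_filter.1 hψ).2.2.2 ψ (mem_blockOf_self ψ) ⟨χ, hχ⟩ (mem_blockOf_self ⟨χ, hχ⟩)
  have h4 := Blocks.ClassSum.memLocalIdeal_of_induced (M := M) _ (irr_isClassFunction hχ) h3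
    (f := fun g => if g ∈ pSet p G then (1 : ℂ) else 0) (fun g h => by simp only [conj_mem_pSet]) (fun g => by
      split_ifs
      · exact Blocks.Local.memLocalRing_one
      · exact Blocks.Local.memLocalRing_zero)
  have h5 : ∀ x : Subgroup.centralizer ({z} : Set G), (x : G) ∈ pSet p G ↔ x ∈ pSet p _ := fun x => by
    show (∃ k : ℕ, orderOf (x : G) = p ^ k) ↔ ∃ k : ℕ, orderOf x = p ^ k
    rw [Subgroup.orderOf_coe]
  simp only [h5] at h4
  rw [hω.sum_eq (irr_one_ne_zero ψ.2), hs.sum_eq (irr_one_ne_zero hχ)] at h4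
  have h6 : (ω : ℂ) - lam = ((ω - lam : ℤ) : ℂ) := by simp
  rw [h6, Blocks.Local.memLocalIdeal_intCast_iff hM (ω - lam)] at h4
  rwa [dvd_sub_comm]

section Rank

variable [Finite G] {U T : Subgroup G} {n0 : G} (h : Rk1 U T n0)

/-- a group of rank one as a split pair -/
def toSplit : H664.R1.Split G where
  B := h.bor
  U := U
  T := T
  w := n0
  UB := h.U_le
  TB := h.T_le
  nU _ hb _ hu := h.conj_mem_U hb hu
  dec _ hb := hb
  disj := h.UT
  comm := h.comm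
  wT := h.n0T
  wT' := by
    intro t ht
    let f : T → T := fun t => ⟨n0⁻¹ * t * n0, h.n0T t t.2⟩
    have hf : Function.Injective f := fun a b hab =>
      Subtype.ext (mul_left_cancel (mul_right_cancel (congrArg Subtype.val hab : n0⁻¹ * (a : G) * n0 = n0⁻¹ * b * n0)))
    obtain ⟨s, hs⟩ := (Finite.injective_iff_surjective.1 hf) ⟨t, ht⟩
    have h1 : n0⁻¹ * (s : G) * n0 = t := congrArg Subtype.val hs
    have h2 : n0 * t * n0⁻¹ = s := by rw [← h1]; group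
    rw [h2]
    exact s.2
  cap _ hb hb' := h.mem_T_of hb hb'
  big _ hx := by
    obtain ⟨u, hu, b, hb, e⟩ := h.exists_of_notMem hx
    exact ⟨u, h.U_le hu, b, hb, e⟩
  wB := h.n0_notMem

open Cfsg.Agent.Characters.Core Cfsg.Agent.H664.R1 in
/-- the characters according to their fixed vectors -/
theorem split_cases [Fintype G] (D : Split G) [Fintype D.U] {χ : G → ℂ} (hχ : IsIrrCharacter G χ) :
    (∑ u : D.U, χ u = 0) ∨ (∑ u : D.U, χ u = 2 * Nat.card D.U ∧ χ 1 = Nat.card D.U + 1 ∧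
      ∀ g, (∀ x : G, x⁻¹ * g * x ∉ D.B) → χ g = 0) ∨
    ∃ d d' : ℕ, 0 < d ∧ 0 < d' ∧ χ 1 = d ∧ d + d' = Nat.card D.U + 1 ∧ ∑ u : D.U, χ u = Nat.card D.U ∧
      d ∣ (Nat.card D.U + 1) * Nat.card D.U ∧ d' ∣ (Nat.card D.U + 1) * Nat.card D.U := by
  classical
  have hsum : ∀ {φ : G → ℂ} {k : ℂ}, classInner (fun u : D.U => φ u) 1 = k → ∑ u : D.U, φ u = k * Nat.card D.U := by
    intro φ k hk
    rw [Core.classInner_def] at hk
    simp only [Pi.one_apply, map_one, mul_one] at hk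
    rw [← hk, mul_comm, ← mul_assoc, mul_inv_cancel₀ card_ne_zero_complex, one_mul]
  by_cases h0 : ∑ u : D.U, χ u = 0
  · exact Or.inl h0
  refine Or.inr ?_
  have h1 : classInner (fun u : D.U => χ u) 1 ≠ 0 := fun h => h0 (by rw [hsum h, zero_mul])
  obtain ⟨f, hf, hne⟩ := D.exists_ps hχ h1
  have h7 := D.inner_U_one f hf
  by_cases hinv : ∀ t, ∀ ht : t ∈ D.T, f ⟨t, D.TB ht⟩ = f ⟨D.w⁻¹ * t * D.w, D.TB (D.wT t ht)⟩
  swap
  · left
    push Not at hinv
    have h2 := D.isIrr_ps f hinv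
    have h3 : χ = D.ps f := by
      by_contra h3
      exact hne (classInner_irr_ne h2 hχ (fun h => h3 h.symm))
    rw [h3]
    exact ⟨hsum h7, D.ps_one f, fun g hg => H956.OZ.R1.ps_zero D f hg⟩
  right
  obtain ⟨χ', hχ', hne', hs⟩ : ∃ χ' : G → ℂ, IsIrrCharacter G χ' ∧ χ' ≠ χ ∧ D.ps f = χ + χ' := by
    obtain ⟨a, b, hab, h⟩ := exists_two (D.isCharacter_ps f) (D.norm_ps f hinv)
    by_cases ha : (a : G → ℂ) = χ
    · exact ⟨b, b.2, fun hb => hab (Subtype.ext (ha.trans hb.symm)), by rw [h, ha]⟩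
    by_cases hb : (b : G → ℂ) = χ
    · exact ⟨a, a.2, ha, by rw [h, hb, add_comm]⟩
    · exfalso
      apply hne
      rw [h, classInner_add_left, classInner_irr_ne a.2 hχ ha, classInner_irr_ne b.2 hχ hb, add_zero]
  obtain ⟨k, hk⟩ := classInner_isNat (isCharacter_comp D.U.subtype (isIrr_isCharacter hχ)) (isCharacter_one (G := D.U))
  obtain ⟨k', hk'⟩ := classInner_isNat (isCharacter_comp D.U.subtype (isIrr_isCharacter hχ'))
    (isCharacter_one (G := D.U))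
  have e1 : classInner (fun u : D.U => χ u) 1 = k := hk
  have e2 : classInner (fun u : D.U => χ' u) 1 = k' := hk'
  have h6 : classInner (fun u : D.U => χ' u) 1 ≠ 0 := by
    apply D.inner_ne_zero f hf hχ'
    rw [hs, classInner_add_left, classInner_irr_self hχ', classInner_irr_ne hχ hχ' hne'.symm, zero_add]
    exact one_ne_zero
  rw [hs] at h7
  have h8 := D.inner_add_U χ χ' (1 : D.U → ℂ)
  rw [h7, e1, e2] at h8
  have h9 : 2 = k + k' := by exact_mod_cast h8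
  have hk0 : k ≠ 0 := by rintro rfl; exact h1 (by rw [e1, Nat.cast_zero])
  have hk0' : k' ≠ 0 := by rintro rfl; exact h6 (by rw [e2, Nat.cast_zero])
  have hk1 : k = 1 := by omega
  have hk1' : k' = 1 := by omega
  obtain ⟨d, hd0, hd⟩ := isIrr_apply_one hχ
  obtain ⟨d', hd0', hd'⟩ := isIrr_apply_one hχ'
  refine ⟨d, d', hd0, hd0', hd, ?_, ?_, ?_, ?_⟩
  · have := congrFun hs 1
    rw [D.ps_one, Pi.add_apply, hd, hd'] at this
    exact_mod_cast this.symm
  · rw [hsum e1, hk1, Nat.cast_one, one_mul]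
  · have := H956.OZ.R1.deg_dvd D hχ hd e1
    rwa [hk1, mul_one] at this
  · have := H956.OZ.R1.deg_dvd D hχ' hd' e2
    rwa [hk1', mul_one] at this

include h in
/-- **The central character in rank one.** -/
theorem om_cases {p v : ℕ} (hp : p.Prime) (hU : Nat.card U = p ^ v) (hT : ¬ p ∣ Nat.card T) {ψ : G → ℂ}
    (hψ : IsIrrCharacter G ψ) :
    Om p ψ (-(p : ℤ) ^ v) ∨ (Om p ψ ((p : ℤ) ^ v) ∧ ∀ g, (∀ x : G, x⁻¹ * g * x ∉ h.bor) → ψ g = 0) ∨
      ∃ j d : ℕ, j ≤ 2 * v ∧ Om p ψ ((p : ℤ) ^ j) ∧ ψ 1 = d ∧ d * (p ^ v + p ^ j) = p ^ v * (p ^ v + 1) ∧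
        p ^ v + p ^ (2 * v - j) ∣ p ^ v * (p ^ v + 1) ∧ ∑ᶠ u : U, ψ u = (p : ℂ) ^ v := by
  classical
  have := Fintype.ofFinite G
  have hfU : Fintype U := Fintype.ofFinite _
  have hS := h.sum_pel hp (IsPGroup.of_card hU) hT ψ (fun x v => irr_conj hψ v x)
    (Finset.univ.filter (· ∈ pSet p G)) fun v => by
      rw [Finset.mem_filter]; exact ⟨fun h => h.2, fun h => ⟨Finset.mem_univ _, h⟩⟩
  rw [← finsum_pSet, hU] at hS
  have hc := @split_cases G _ _ _ (toSplit h) hfU ψ hψ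
  have e : Nat.card (toSplit h).U = p ^ v := hU
  rw [e] at hc
  rcases hc with h1 | ⟨h1, h2, h3⟩ | ⟨d, d', hd, hd', h1, h2, h3, h4, h5⟩
  · left
    have h1' : ∑ u : U, ψ u = 0 := h1
    rw [Om, hS, h1']
    push_cast
    ring
  · right; left
    have h1' : ∑ u : U, ψ u = 2 * ((p ^ v : ℕ) : ℂ) := h1
    refine ⟨?_, h3⟩
    rw [Om, hS, h1', h2]
    push_cast
    ring
  · right; right
    have h3' : ∑ u : U, ψ u = ((p ^ v : ℕ) : ℂ) := h3
    obtain ⟨Q, hQ⟩ : ∃ Q, Q = p ^ v := ⟨_, rfl⟩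
    rw [← hQ] at h2 h4 h5 hS h3'
    have hQ0 : 0 < Q := hQ ▸ pow_pos hp.pos v
    -- `ω d = Q d'`, `ω' d' = Q d`
    have key : ∀ {d d' : ℕ}, d + d' = Q + 1 → d ∣ (Q + 1) * Q → ∃ ω, ω * d = Q * d' := by
      intro d d' h2 h4
      rw [← h2, add_mul] at h4
      obtain ⟨ω, hω⟩ := (Nat.dvd_add_right (Dvd.intro _ rfl)).1 h4
      exact ⟨ω, by rw [mul_comm Q, hω, mul_comm]⟩
    obtain ⟨ω, hω⟩ := key h2 h4
    obtain ⟨ω', hω'⟩ := key (by rw [add_comm]; exact h2) h5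
    have h6 : ω * ω' = p ^ (2 * v) := by
      apply Nat.eq_of_mul_eq_mul_right (Nat.mul_pos hd hd')
      calc ω * ω' * (d * d') = (ω * d) * (ω' * d') := by ring
        _ = _ := by rw [hω, hω', hQ]; ring
    obtain ⟨j, hj, rfl⟩ := (Nat.dvd_prime_pow hp).1 (Dvd.intro _ h6)
    have h7 : ω' = p ^ (2 * v - j) := by
      apply Nat.eq_of_mul_eq_mul_left (pow_pos hp.pos j)
      rw [h6, ← pow_add, Nat.add_sub_cancel' hj]
    refine ⟨j, d, hj, ?_, h1, ?_, ?_, ?_⟩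
    · rw [Om, hS, h3', h1]
      have e1 : ((p ^ j * d : ℕ) : ℂ) = ((Q * d' : ℕ) : ℂ) := by rw [hω]
      have e2 : ((d + d' : ℕ) : ℂ) = ((Q + 1 : ℕ) : ℂ) := by rw [h2]
      push_cast at e1 e2 ⊢
      linear_combination (-1 : ℂ) * e1 - Q * e2
    · rw [← hQ, ← h2, mul_add, mul_add, ← hω]
      ring
    · rw [← hQ, ← h7]
      refine Dvd.intro_left d' ?_
      rw [← h2, mul_add, mul_add, ← hω']
      ring
    · rw [finsum_eq_sum_of_fintype, h3', hQ, Nat.cast_pow]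

end Rank

end Cfsg.Agent.VAN.E
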